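import Groth.Agent.SchTorsor.Props
import Groth.Agent.EtFound.Descent
import Groth.Prelude.Def_ActBC
import Groth.Prelude.Def_ChGrp

/-!
Generalities on fppf torsors under finite, proper or etale group schemes.
-/

universe u

open CategoryTheory MonoidalCategory CartesianMonoidalCategory MonObj GrpObj AlgebraicGeometry
open CategoryTheory.Limits

set_option linter.style.haveILetI false

namespace Groth.Agent.TorsNorm28

variable {S : Scheme.{u}} {G G' X X' : Over S} [GrpObj G] [GrpObj G']

/-- An fppf torsor is an fpqc torsor. -/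
theorem toFpqc {a : AlgGrp.Action G X} (h : NonAbH1.IsTorsorFor Scheme.fppfPrecoverage a) :
    NonAbH1.IsTorsorFor Scheme.fpqcPrecoverage a :=
  ⟨h.1, h.2.choose, Scheme.fppfPrecoverage_le_fpqcPrecoverage _ h.2.choose_spec.1, h.2.choose_spec.2⟩

/-- A torsor under a finite group is finite over the base. -/
theorem isFinite_hom {a : AlgGrp.Action G X} (ha : NonAbH1.IsTorsorFor Scheme.fpqcPrecoverage a)
    [IsFinite G.hom] : IsFinite X.hom := by
  haveI := Groth.Agent.EtFound.fpqc_isFinite.{u}
  exact Groth.Agent.SchTorsor.torsor_property @IsFinite ha inferInstance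

/-- A torsor under a proper group is proper over the base. -/
theorem isProper_hom {a : AlgGrp.Action G X} (ha : NonAbH1.IsTorsorFor Scheme.fpqcPrecoverage a)
    [IsProper G.hom] : IsProper X.hom := by
  haveI := Groth.Agent.EtFound.fpqc_isProper.{u}
  exact Groth.Agent.SchTorsor.torsor_property @IsProper ha inferInstance

/-- A torsor under a separated group is separated over the base. -/
theorem isSeparated_hom {a : AlgGrp.Action G X} (ha : NonAbH1.IsTorsorFor Scheme.fpqcPrecoverage a)
    [IsSeparated G.hom] : IsSeparated X.hom := by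
  haveI := Groth.Agent.EtFound.fpqc_isSeparated.{u}
  exact Groth.Agent.SchTorsor.torsor_property @IsSeparated ha inferInstance

/-- Restricting a pseudo-torsor along an isomorphism of groups gives a pseudo-torsor. -/
theorem isPseudoTorsor_restrict {a : AlgGrp.Action G' X} (ha : NonAbH1.IsPseudoTorsorSch a)
    (φ : G ⟶ G') [IsMonHom φ] [IsIso φ] : NonAbH1.IsPseudoTorsorSch (a.restrict φ) := by
  haveI : IsIso (lift a.act (snd G' X)) := ha
  have e : lift (a.restrict φ).act (snd G X) = (φ ▷ X) ≫ lift a.act (snd G' X) := by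
    rw [comp_lift, AlgGrp.Action.restrict_act, whiskerRight_snd]
  unfold NonAbH1.IsPseudoTorsorSch
  rw [e]
  infer_instance

/-- A pushforward datum is an equivariant morphism for the restricted action. -/
theorem isEquivariant_of_pushforward (φ : G ⟶ G') [IsMonHom φ] {a : AlgGrp.Action G X}
    {a' : AlgGrp.Action G' X'} {f : X ⟶ X'} (h : a.act ≫ f = lift (fst G X ≫ φ) (snd G X ≫ f) ≫ a'.act) :
    AlgGrp.Action.IsEquivariant a (a'.restrict φ) f := by
  unfold AlgGrp.Action.IsEquivariant
  rw [h, AlgGrp.Action.restrict_act, ← Category.assoc]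
  congr 1
  apply CartesianMonoidalCategory.hom_ext <;> simp

/-- A point of the target of a pushforward lifts to the source after any base change inverting the homomorphism. -/
theorem exists_lift_of_pushforward (φ : G ⟶ G') [IsMonHom φ] {a : AlgGrp.Action G X} {a' : AlgGrp.Action G' X'}
    (ha : NonAbH1.IsTorsorFor Scheme.fpqcPrecoverage a) (ha' : NonAbH1.IsPseudoTorsorSch a')
    {f : X ⟶ X'} (h : a.act ≫ f = lift (fst G X ≫ φ) (snd G X ≫ f) ≫ a'.act)
    {T : Scheme.{u}} (t : T ⟶ S) (hφ : IsIso ((Over.pullback t).map φ))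
    (σ : T ⟶ X'.left) (hσ : σ ≫ X'.hom = t) : ∃ τ : T ⟶ X.left, τ ≫ X.hom = t ∧ τ ≫ f.left = σ := by
  have he := (isEquivariant_of_pushforward φ h)
  have he' := AlgGrp.Action.isEquivariant_bc t he
  rw [AlgGrp.Action.bc_restrict] at he'
  haveI : IsMonHom ((Over.pullback t).map φ) := inferInstance
  have hps := NonAbH1.isPseudoTorsorSch_bc t ha'
  haveI : IsIso ((Over.pullback t).map f) := Groth.Agent.SchTorsor.isIso_of_equivariant
    (NonAbH1.isTorsorFor_bc t Scheme.fpqcPrecoverage ha) (isPseudoTorsor_restrict hps _) _ he'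
  let s : Over.mk (𝟙 T) ⟶ (Over.pullback t).obj X' :=
    Over.homMk (pullback.lift σ (𝟙 T) (hσ.trans (Category.id_comp t).symm)) (pullback.lift_snd _ _ _)
  let r := (s ≫ inv ((Over.pullback t).map f)).left
  refine ⟨r ≫ pullback.fst X.hom t, ?_, ?_⟩
  · have hr : r ≫ pullback.snd X.hom t = 𝟙 T := Over.w (s ≫ inv ((Over.pullback t).map f))
    rw [Category.assoc, pullback.condition, reassoc_of% hr]
    exact Category.id_comp t
  · have h1 : (s ≫ inv ((Over.pullback t).map f)) ≫ (Over.pullback t).map f = s := by simp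
    have h2 := congrArg (fun q => q.left ≫ pullback.fst X'.hom t) h1
    simp only [Over.comp_left, Category.assoc] at h2
    rw [ActBC.pullback_map_left_fst] at h2
    rw [Category.assoc]
    refine Eq.trans ?_ (h2.trans (pullback.lift_fst _ _ _))
    simp [r]

end Groth.Agent.TorsNorm28
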