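import Groth.Agent.SchTorsor.Basic
import Groth.Prelude.Def_ActBC

/-!
Classes of torsors: equality of classes is equivariant isomorphism; sections trivialise.
-/

universe u

open CategoryTheory MonoidalCategory CartesianMonoidalCategory MonObj GrpObj AlgebraicGeometry

set_option linter.style.haveILetI false

namespace Groth.Agent.TorsNorm28

variable {S : Scheme.{u}} {G : Over S} [GrpObj G] {K : Precoverage Scheme.{u}}

theorem equivIso_equivalence :
    Equivalence fun P Q : NonAbH1.TorsorSch G K => Nonempty (NonAbH1.EquivIso P.act Q.act) where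
  refl P := ⟨⟨Iso.refl _, by simp⟩⟩
  symm := fun {P Q} ⟨e⟩ => ⟨⟨e.iso.symm, by
    rw [Iso.symm_hom, ← cancel_mono e.iso.hom, Category.assoc, Iso.inv_hom_id, Category.comp_id,
      Category.assoc, e.comm, whiskerLeft_inv_hom_assoc]⟩⟩
  trans := fun {P Q R} ⟨e⟩ ⟨e'⟩ => ⟨⟨e.iso ≪≫ e'.iso, by
    rw [Iso.trans_hom, ← Category.assoc, e.comm, Category.assoc, e'.comm, MonoidalCategory.whiskerLeft_comp,
      Category.assoc]⟩⟩

theorem cl_eq_iff {P Q : NonAbH1.TorsorSch G K} :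
    P.cl = Q.cl ↔ Nonempty (NonAbH1.EquivIso P.act Q.act) :=
  ⟨fun h => equivIso_equivalence.eqvGen_iff.1 (Quot.eqvGen_exact h), fun h => Quot.sound h⟩

/-- A trivial class has a section. -/
theorem hasSection_of_cl_eq_one [K.HasIsos] {P : NonAbH1.TorsorSch G K} (h : P.cl = 1) :
    NonAbH1.HasSectionOver P.X (𝟙 S) := by
  obtain ⟨e⟩ := cl_eq_iff.1 h
  refine ⟨η[G].left ≫ e.iso.inv.left, ?_⟩
  rw [Category.assoc, Over.w e.iso.inv]
  exact Over.w η[G]

/-- A torsor with a section has trivial class. -/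
theorem cl_eq_one_of_hasSection [K.HasIsos] {P : NonAbH1.TorsorSch G K}
    (h : NonAbH1.HasSectionOver P.X (𝟙 S)) : P.cl = 1 := by
  obtain ⟨σ, hσ⟩ := h
  let s : 𝟙_ (Over S) ⟶ P.X := Over.homMk σ hσ
  have h0 := Groth.Agent.SchTorsor.isIso_of_section P.isTorsor.1 s
  haveI : IsIso (lift ((G ◁ s) ≫ P.act.act) (snd G (𝟙_ (Over S)))) := h0
  let φ : G ⟶ P.X := (ρ_ G).inv ≫ lift ((G ◁ s) ≫ P.act.act) (snd G _) ≫ (ρ_ P.X).hom
  have hφ : φ = lift (𝟙 G) (toUnit G ≫ s) ≫ P.act.act := by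
    have h1 : φ = ((ρ_ G).inv ≫ (G ◁ s)) ≫ P.act.act := by simp [φ, rightUnitor_hom]
    have h2 : (ρ_ G).inv ≫ (G ◁ s) = lift (𝟙 G) (toUnit G ≫ s) := by
      apply CartesianMonoidalCategory.hom_ext
      · simp
      · simp only [Category.assoc, whiskerLeft_snd, lift_snd]
        rw [← Category.assoc, toUnit_unique ((ρ_ G).inv ≫ snd G (𝟙_ (Over S))) (toUnit G)]
    rw [h1, h2]
  symm
  refine cl_eq_iff.2 ⟨⟨asIso φ, ?_⟩⟩
  show (NonAbH1.trivialAction G).act ≫ φ = (G ◁ φ) ≫ P.act.act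
  rw [hφ, comp_lift_assoc, Category.comp_id, ← Category.assoc, toUnit_unique (_ ≫ toUnit G) (snd G G ≫ toUnit G),
    Category.assoc]
  have h1 : (NonAbH1.trivialAction G).act = fst G G * snd G G := by
    show μ[G] = _
    rw [Hom.mul_def, lift_fst_snd, Category.id_comp]
  rw [h1, Groth.Agent.SchTorsor.act_assoc]
  conv_rhs => rw [show G ◁ (lift (𝟙 G) (toUnit G ≫ s) ≫ P.act.act) =
    lift (fst G G) (snd G G ≫ lift (𝟙 G) (toUnit G ≫ s) ≫ P.act.act) from
      CartesianMonoidalCategory.hom_ext _ _ (by simp) (by simp)]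
  rw [comp_lift_assoc, Category.comp_id]

end Groth.Agent.TorsNorm28
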