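import Groth.Agent.TorsNorm28.EtaleNormal
import Groth.Agent.GrpSchLib.CharZeroPts
import Groth.Prelude.Def_Red

/-!
Torsors under étale group schemes defined over a field, over normal integral schemes.
-/

universe u

open CategoryTheory MonoidalCategory CartesianMonoidalCategory MonObj GrpObj AlgebraicGeometry
open CategoryTheory.Limits

set_option linter.style.haveILetI false

namespace Groth.Agent.TorsNorm28

variable {k : Type u} [Field k] {G : Over (Spec (CommRingCat.of k))} [GrpObj G] [Etale G.hom]
  {S : Scheme.{u}} {s : S ⟶ Spec (CommRingCat.of k)}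

instance etale_bc_hom : Etale (Red.bc s G).hom :=
  inferInstanceAs (Etale (Limits.pullback.snd G.hom s))

theorem isSeparated_bc_hom : IsSeparated (Red.bc s G).hom := by
  haveI := Groth.Agent.GrpSchLib.CharZeroPts.isSeparated_grp G
  exact inferInstanceAs (IsSeparated (Limits.pullback.snd G.hom s))

theorem etale_hom (E : NonAbH1.TorsorSch (Red.bc s G) Scheme.fppfPrecoverage) : Etale E.X.hom :=
  Groth.Agent.SchTorsor.torsor_property @Etale (toFpqc E.isTorsor) inferInstance

theorem separated_hom (E : NonAbH1.TorsorSch (Red.bc s G) Scheme.fppfPrecoverage) : IsSeparated E.X.hom := by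
  haveI : IsSeparated (Red.bc s G).hom := isSeparated_bc_hom
  exact isSeparated_hom (toFpqc E.isTorsor)

/-- Points of the generic fibre of a torsor under a group over a field specialise to every fibre. -/
theorem exists_specialization [IsIntegral S] (E : NonAbH1.TorsorSch (Red.bc s G) Scheme.fppfPrecoverage)
    (x₀ : E.X.left) (hx₀ : E.X.hom x₀ = genericPoint S) (z : S) :
    ∃ e : E.X.left, E.X.hom e = z ∧ x₀ ⤳ e := by
  obtain ⟨R, hR, hsec⟩ := E.isTorsor.2
  obtain ⟨J, U, f, rfl⟩ := R.exists_eq_ofArrows
  obtain ⟨hsurj, hflat⟩ := (Scheme.ofArrows_mem_precoverage_iff _).1 hR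
  obtain ⟨j, z', rfl⟩ := hsurj z
  haveI : Flat (f j) := (hflat j).1
  obtain ⟨σ, hσ⟩ := hsec (f j) (.mk j)
  obtain ⟨u₀, hu₀, hfu₀⟩ := (Flat.generalizingMap (f j)) (genericPoint_specializes (f j z'))
  obtain ⟨e₀, he₀, he₀'⟩ := Scheme.Pullback.exists_preimage_pullback (f := E.X.hom) (g := f j) x₀ u₀
    (hx₀.trans hfu₀.symm)
  let θ := lift ((Red.bc s G ◁ (Over.homMk σ hσ : Over.mk (f j) ⟶ E.X)) ≫ E.act.act)
    (snd (Red.bc s G) (Over.mk (f j)))
  haveI : IsIso θ := Groth.Agent.SchTorsor.isIso_of_section E.isTorsor.1 _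
  haveI : IsIso θ.left := (Over.forget S).map_isIso θ
  let θ' : Limits.pullback (Red.bc s G).hom (f j) ⟶ Limits.pullback E.X.hom (f j) := θ.left
  haveI : IsIso θ' := ‹IsIso θ.left›
  have hθ : θ' ≫ Limits.pullback.snd E.X.hom (f j) = Limits.pullback.snd (Red.bc s G).hom (f j) :=
    congrArg CommaMorphism.left (lift_snd _ _ : θ ≫ snd E.X (Over.mk (f j)) = _)
  have hsp : SpecializingMap (Limits.pullback.snd E.X.hom (f j)) := by
    refine specializingMap_of_iso_comp θ' _ ?_
    rw [hθ]
    show SpecializingMap (Limits.pullback.snd (Limits.pullback.snd G.hom s) (f j))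
    rw [← pullbackLeftPullbackSndIso_hom_snd G.hom s (f j)]
    refine specializingMap_of_iso_comp (pullbackLeftPullbackSndIso G.hom s (f j)).inv _ ?_
    rw [Iso.inv_hom_id_assoc]
    exact specializingMap_snd_of_field G.hom (f j ≫ s)
  obtain ⟨e, hes, rfl⟩ := hsp (a := e₀) (b := z') (by rw [he₀']; exact hu₀)
  refine ⟨Limits.pullback.fst E.X.hom (f j) e, ?_, he₀ ▸ hes.map (Limits.pullback.fst E.X.hom (f j)).continuous⟩
  rw [← Scheme.Hom.comp_apply, Limits.pullback.condition, Scheme.Hom.comp_apply]

/-- Rational points of the generic fibre of a torsor under an étale group over a field extend. -/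
theorem exists_section [IsIntegral S] (hS : Pi1.IsNormalScheme S)
    (E : NonAbH1.TorsorSch (Red.bc s G) Scheme.fppfPrecoverage)
    (x : Spec (S.residueField (genericPoint S)) ⟶ E.X.left)
    (hx : x ≫ E.X.hom = S.fromSpecResidueField (genericPoint S)) :
    ∃ σ : S ⟶ E.X.left, σ ≫ E.X.hom = 𝟙 S ∧ S.fromSpecResidueField (genericPoint S) ≫ σ = x := by
  haveI := etale_hom E
  haveI := separated_hom E
  refine exists_section_of_etale hS E.X.hom x hx fun z => ?_
  let pt : Spec (S.residueField (genericPoint S)) := IsLocalRing.closedPoint (S.residueField (genericPoint S))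
  obtain ⟨e, he, hs⟩ := exists_specialization E (x pt) (by
    rw [← Scheme.Hom.comp_apply, hx]
    exact S.fromSpecResidueField_apply _ pt) z
  exact ⟨e, he, fun p => Subsingleton.elim pt p ▸ hs⟩

/-- The canonical point of the function field agrees with the residue field point. -/
theorem exists_residue_generic (X : Scheme.{u}) [IsIntegral X] :
    ∃ r : Spec (X.residueField (genericPoint X)) ⟶ Spec X.functionField, IsIso r ∧
      r ≫ X.fromSpecStalk (genericPoint X) = X.fromSpecResidueField (genericPoint X) := by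
  haveI : IsIso (X.residue (genericPoint X)) := by
    refine ConcreteCategory.isIso_iff_bijective _ |>.2 ⟨?_, Ideal.Quotient.mk_surjective⟩
    exact RingHom.injective (R := X.functionField) (X.residue (genericPoint X)).hom
  exact ⟨Spec.map (X.residue (genericPoint X)), inferInstance, rfl⟩

theorem section_ext_residue {X Y : Scheme.{u}} [IsIntegral X] (g : Y ⟶ X) [IsSeparated g] {σ σ' : X ⟶ Y}
    (h : σ ≫ g = 𝟙 X) (h' : σ' ≫ g = 𝟙 X)
    (he : X.fromSpecResidueField (genericPoint X) ≫ σ = X.fromSpecResidueField (genericPoint X) ≫ σ') :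
    σ = σ' := by
  obtain ⟨r, hr, hrr⟩ := exists_residue_generic X
  rw [← hrr, Category.assoc, Category.assoc, cancel_epi] at he
  exact Groth.Agent.SchTorsor.section_ext g h h' he

end Groth.Agent.TorsNorm28
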