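import Groth.Agent.TorsNorm28.Basic
import Groth.Prelude.Def_ActBC

/-!
Restriction of actions along isomorphisms and iterated base change.
-/

universe u

open CategoryTheory MonoidalCategory CartesianMonoidalCategory MonObj GrpObj AlgebraicGeometry
open CategoryTheory.Limits

set_option linter.style.haveILetI false

namespace Groth.Agent.TorsNorm28

variable {S : Scheme.{u}} {G H H' X Y : Over S} [GrpObj G] [GrpObj H] [GrpObj H']

/-- An equivariant isomorphism stays equivariant for restricted actions. -/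
def equivIsoRestrict {a : AlgGrp.Action G X} {b : AlgGrp.Action G Y} (e : NonAbH1.EquivIso a b) (φ : H ⟶ G)
    [IsMonHom φ] : NonAbH1.EquivIso (a.restrict φ) (b.restrict φ) where
  iso := e.iso
  comm := by
    rw [AlgGrp.Action.restrict_act, AlgGrp.Action.restrict_act, Category.assoc, e.comm, whisker_exchange_assoc]

theorem isTorsorFor_restrict {K : Precoverage Scheme.{u}} {a : AlgGrp.Action G X} (ha : NonAbH1.IsTorsorFor K a)
    (φ : H ⟶ G) [IsMonHom φ] [IsIso φ] : NonAbH1.IsTorsorFor K (a.restrict φ) :=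
  ⟨isPseudoTorsor_restrict ha.1 φ, ha.2⟩

theorem restrict_restrict_eq (a : AlgGrp.Action G X) (φ : H ⟶ G) [IsMonHom φ] (ψ : H' ⟶ H) [IsMonHom ψ]
    (χ : H' ⟶ G) [IsMonHom χ] (h : ψ ≫ φ = χ) : (a.restrict φ).restrict ψ = a.restrict χ :=
  AlgGrp.Action.ext' (by
    rw [AlgGrp.Action.restrict_act, AlgGrp.Action.restrict_act, AlgGrp.Action.restrict_act, ← h,
      MonoidalCategory.comp_whiskerRight, Category.assoc])

/-- Torsors pulled back along two compatible points of the base. -/
theorem exists_extension_torsor {B X₀ T T' : Scheme.{u}} {x : X₀ ⟶ B} {r : T ⟶ B} {d : T' ⟶ B} (j : T' ⟶ T)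
    (e' : T ⟶ X₀) (he' : e' ≫ x = r) (hc : j ≫ r = d) {e : T' ⟶ X₀} (hje : j ≫ e' = e) (he : e ≫ x = d)
    {G₀ : Over B} [GrpObj G₀] {K : Precoverage Scheme.{u}} [K.IsStableUnderBaseChange]
    (P : NonAbH1.TorsorSch (Red.bc x G₀) K) :
    ∃ Q : NonAbH1.TorsorSch (Red.bc r G₀) K, Nonempty (NonAbH1.EquivIso
      ((Q.act.bc j).restrict (ActBC.bcCompIso j r G₀ hc).inv)
      ((P.act.bc e).restrict (ActBC.bcCompIso e x G₀ he).inv)) := by
  let Q : NonAbH1.TorsorSch (Red.bc r G₀) K :=
    ⟨Red.bc e' P.X, (P.act.bc e').restrict (ActBC.bcCompIso e' x G₀ he').inv,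
      isTorsorFor_restrict (NonAbH1.isTorsorFor_bc e' K P.isTorsor) _⟩
  let φ := (Over.pullback j).map (ActBC.bcCompIso e' x G₀ he').inv
  let c := ActBC.bcCompIso j e' (Red.bc x G₀) hje
  have key : (ActBC.bcCompIso j r G₀ hc).inv ≫ φ ≫ c.hom = (ActBC.bcCompIso e x G₀ he).inv := by
    rw [Iso.inv_comp_eq, Iso.eq_comp_inv]
    ext
    apply pullback.hom_ext
    · simp only [Over.comp_left, Category.assoc]
      erw [ActBC.bcCompIso_hom_left_fst e x G₀ he, ActBC.bcCompIso_hom_left_fst j r G₀ hc]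
      erw [← Category.assoc c.hom.left, ActBC.bcCompIso_hom_left_fst j e' (Red.bc x G₀) hje]
      simp only [Category.assoc]
      erw [← Category.assoc φ.left, ActBC.pullback_map_left_fst j (ActBC.bcCompIso e' x G₀ he').inv]
      simp only [Category.assoc]
      congr 1
      erw [← ActBC.bcCompIso_hom_left_fst e' x G₀ he']
      rw [← Category.assoc, ← Over.comp_left, Iso.inv_hom_id]
      exact Category.id_comp _
    · exact (Over.w _).trans (Over.w _).symm
  haveI : IsMonHom (φ ≫ c.hom) := inferInstance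
  haveI : IsMonHom ((ActBC.bcCompIso j r G₀ hc).inv ≫ φ ≫ c.hom) := inferInstance
  refine ⟨Q, ⟨?_⟩⟩
  have h1 : (Q.act.bc j).restrict (ActBC.bcCompIso j r G₀ hc).inv =
      (((P.act.bc e').bc j).restrict φ).restrict (ActBC.bcCompIso j r G₀ hc).inv := by
    show (((P.act.bc e').restrict (ActBC.bcCompIso e' x G₀ he').inv).bc j).restrict _ = _
    rw [AlgGrp.Action.bc_restrict]
  let ε := equivIsoRestrict (equivIsoRestrict (ActBC.equivIsoBcComp j e' hje P.act) φ)
    (ActBC.bcCompIso j r G₀ hc).inv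
  have h2 : (((P.act.bc e).restrict c.hom).restrict φ).restrict (ActBC.bcCompIso j r G₀ hc).inv =
      (P.act.bc e).restrict (ActBC.bcCompIso e x G₀ he).inv := by
    rw [restrict_restrict_eq (P.act.bc e) c.hom φ (φ ≫ c.hom) rfl,
      restrict_restrict_eq (P.act.bc e) (φ ≫ c.hom) _ ((ActBC.bcCompIso e x G₀ he).inv) key]
  rw [h1, ← h2]
  exact ε

end Groth.Agent.TorsNorm28
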