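import Groth.Agent.TorsNorm28.Basic
import Groth.Agent.H23.RatExtend
import Groth.Prelude.Def_Neron
import Mathlib.RingTheory.DedekindDomain.Dvr

/-!
Points of proper schemes over Dedekind domains extend from the generic point.
-/

universe u

open CategoryTheory AlgebraicGeometry

set_option linter.style.haveILetI false

namespace Groth.Agent.TorsNorm28

theorem valuationRing_localization_dedekind (R : Type u) [CommRing R] [IsDomain R] [IsDedekindDomain R]
    (p : Ideal R) [p.IsPrime] : ValuationRing (Localization.AtPrime p) := by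
  haveI : IsDomain (Localization.AtPrime p) :=
    IsLocalization.isDomain_localization p.primeCompl_le_nonZeroDivisors
  rcases eq_or_ne p ⊥ with rfl | hp
  · haveI : IsFractionRing R (Localization.AtPrime (⊥ : Ideal R)) := by
      delta IsFractionRing
      have : (⊥ : Ideal R).primeCompl = nonZeroDivisors R := by
        ext x; simp [Ideal.primeCompl, mem_nonZeroDivisors_iff_ne_zero]
      rw [← this]; exact Localization.isLocalization
    letI := IsFractionRing.toField R (K := Localization.AtPrime (⊥ : Ideal R))
    infer_instance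
  · haveI := IsLocalization.AtPrime.isDiscreteValuationRing_of_dedekind_domain R hp (Localization.AtPrime p)
    infer_instance

theorem valuationRing_stalk_dedekind (R : Type u) [CommRing R] [IsDomain R] [IsDedekindDomain R]
    (p : Spec (CommRingCat.of R)) : ValuationRing ((Spec (CommRingCat.of R)).presheaf.stalk p) := by
  let q : PrimeSpectrum R := p
  haveI := valuationRing_localization_dedekind R q.asIdeal
  haveI : IsDomain (Localization.AtPrime q.asIdeal) :=
    IsLocalization.isDomain_localization q.asIdeal.primeCompl_le_nonZeroDivisors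
  let e : Localization.AtPrime q.asIdeal ≃+* (Spec (CommRingCat.of R)).presheaf.stalk p :=
    (StructureSheaf.stalkIso R q).toRingEquiv
  haveI : IsDomain ((Spec (CommRingCat.of R)).presheaf.stalk p) := e.symm.injective.isDomain e.symm.toRingHom
  exact Groth.Agent.H23.RatExtend.valuationRing_of_ringEquiv e

/-- A point of a proper scheme over the fraction field of a Dedekind domain extends to a section. -/
theorem exists_section_dedekind (R : Type u) [CommRing R] [IsDedekindDomain R] {Y : Scheme.{u}}
    (g : Y ⟶ Spec (CommRingCat.of R)) [IsProper g]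
    (t : Spec (CommRingCat.of (FractionRing R)) ⟶ Y) (ht : t ≫ g = Neron.genPt R) :
    ∃ σ : Spec (CommRingCat.of R) ⟶ Y, σ ≫ g = 𝟙 _ ∧ Neron.genPt R ≫ σ = t := by
  letI : Algebra R (Spec (CommRingCat.of R)).functionField :=
    (StructureSheaf.toStalk R (genericPoint (Spec (CommRingCat.of R)))).hom.toAlgebra
  haveI : IsFractionRing R (Spec (CommRingCat.of R)).functionField :=
    @functionField_isFractionRing_of_affine (CommRingCat.of R) _
  let e : FractionRing R ≃ₐ[R] (Spec (CommRingCat.of R)).functionField := FractionRing.algEquiv R (Spec (CommRingCat.of R)).functionField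
  let ε : CommRingCat.of (FractionRing R) ≅ (Spec (CommRingCat.of R)).functionField := e.toRingEquiv.toCommRingCatIso
  have hε : Spec.map ε.hom ≫ Neron.genPt R = (Spec (CommRingCat.of R)).fromSpecStalk (genericPoint (Spec (CommRingCat.of R))) := by
    rw [Spec.fromSpecStalk_eq']
    unfold Neron.genPt
    rw [← Spec.map_comp]
    congr 1
    ext a
    exact e.commutes a
  haveI : Y.IsSeparated := ⟨by
    rw [Limits.terminal.hom_ext (Limits.terminal.from Y) (g ≫ Limits.terminal.from (Spec (CommRingCat.of R)))]
    infer_instance⟩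
  have h₀ : (Spec.map ε.hom ≫ t) ≫ g = (Spec (CommRingCat.of R)).fromSpecStalk (genericPoint (Spec (CommRingCat.of R))) ≫ 𝟙 (Spec (CommRingCat.of R)) := by
    rw [Category.assoc, ht, hε, Category.comp_id]
  obtain ⟨W, hgW, H, hW, hH, hHg⟩ := Groth.Agent.H23.RatExtend.extend (𝟙 (Spec (CommRingCat.of R))) g (Spec.map ε.hom ≫ t) h₀
    Set.univ fun p _ => Groth.Agent.H23.RatExtend.exists_lift (𝟙 (Spec (CommRingCat.of R))) g (Spec.map ε.hom ≫ t) h₀ p
      (valuationRing_stalk_dedekind R p)
  have hWtop : W = ⊤ := TopologicalSpace.Opens.ext (Set.eq_univ_of_univ_subset hW)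
  haveI : IsIso W.ι := by
    subst hWtop
    rw [← Scheme.topIso_hom]; infer_instance
  refine ⟨inv W.ι ≫ H, ?_, ?_⟩
  · rw [Category.assoc, hH, Category.comp_id, IsIso.inv_hom_id]
  · rw [← cancel_epi (Spec.map ε.hom), reassoc_of% hε, ← Scheme.Opens.fromSpecStalkOfMem_ι W _ hgW,
      Category.assoc, IsIso.hom_inv_id_assoc, hHg]

end Groth.Agent.TorsNorm28
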