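import Mathlib.AlgebraicGeometry.Morphisms.Finite
import Mathlib.AlgebraicGeometry.AlgClosed.Basic
import Mathlib.FieldTheory.IsAlgClosed.AlgebraicClosure
import Mathlib.AlgebraicGeometry.Morphisms.SchemeTheoreticallyDominant

/-!
Finite field points of schemes over a field; dense maps from the fraction field.
-/

universe u

open CategoryTheory CategoryTheory.Limits AlgebraicGeometry

set_option linter.style.haveILetI false

namespace Groth.Agent.TorsNorm28

/-- A nonempty scheme locally of finite type over a field has a point in a finite extension. -/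
theorem exists_finite_point (K : Type u) [Field K] {Y : Scheme.{u}} (g : Y ⟶ Spec (CommRingCat.of K))
    [LocallyOfFiniteType g] [Nonempty Y] :
    ∃ (L : Type u) (_ : Field L) (_ : Algebra K L), FiniteDimensional K L ∧
      ∃ pt : Spec (CommRingCat.of L) ⟶ Y, pt ≫ g = Spec.map (CommRingCat.ofHom (algebraMap K L)) := by
  haveI : JacobsonSpace Y := LocallyOfFiniteType.jacobsonSpace g
  obtain ⟨z, -, hz⟩ := nonempty_inter_closedPoints (Z := (Set.univ : Set Y)) Set.univ_nonempty
    isClosed_univ.isLocallyClosed
  haveI := isClosed_singleton_iff_isClosedImmersion.mp hz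
  haveI hfin : IsFinite (Y.fromSpecResidueField z ≫ g) :=
    (isFinite_iff_locallyOfFiniteType_of_jacobsonSpace (f := Y.fromSpecResidueField z ≫ g)).mpr inferInstance
  obtain ⟨φ, hφ⟩ := Spec.map_surjective (Y.fromSpecResidueField z ≫ g)
  rw [← hφ, IsFinite.SpecMap_iff] at hfin
  letI : Algebra K (Y.residueField z) := φ.hom.toAlgebra
  haveI : Module.Finite K (Y.residueField z) := hfin
  exact ⟨Y.residueField z, inferInstance, inferInstance, inferInstance, Y.fromSpecResidueField z, hφ.symm⟩

theorem sd_specMap_fractionRing {R K : Type u} [CommRing R] [IsDomain R] [Field K] [Algebra R K]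
    [IsFractionRing R K] : IsSchemeTheoreticallyDominant (Spec.map (CommRingCat.ofHom (algebraMap R K))) := by
  haveI : IsDominant (Spec.map (CommRingCat.ofHom (algebraMap R K))) := by
    refine ⟨?_⟩
    show DenseRange (PrimeSpectrum.comap (algebraMap R K))
    rw [PrimeSpectrum.denseRange_comap_iff_ker_le_nilRadical,
      (RingHom.injective_iff_ker_eq_bot _).1 (IsFractionRing.injective R K)]
    exact bot_le
  exact IsSchemeTheoreticallyDominant.of_isDominant _

end Groth.Agent.TorsNorm28
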