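import Groth.Agent.TorsNorm28.GenericExt
import Groth.Prelude.Def_ActBC
import Mathlib.CategoryTheory.Comma.Over.Pullback

/-!
An equivariant isomorphism after base change, read as an equivariant family of points.
-/

universe u

open CategoryTheory MonoidalCategory CartesianMonoidalCategory MonObj GrpObj AlgebraicGeometry
open CategoryTheory.Limits

set_option linter.style.haveILetI false

namespace Groth.Agent.TorsNorm28

variable {S S' : Scheme.{u}} {G P Q : Over S} [GrpObj G] (f : S' ⟶ S)
  {a : AlgGrp.Action G P} {a' : AlgGrp.Action G Q}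

/-- The family of points of the target attached to an isomorphism of base changes. -/
noncomputable def famOfBC (e : (Over.pullback f).obj P ⟶ (Over.pullback f).obj Q) : P ⊗ Over.mk f ⟶ Q :=
  Over.homMk ((e.left : pullback P.hom f ⟶ pullback Q.hom f) ≫ pullback.fst Q.hom f) (by
    show ((e.left : pullback P.hom f ⟶ pullback Q.hom f) ≫ pullback.fst Q.hom f) ≫ Q.hom =
      pullback.fst P.hom f ≫ P.hom
    rw [Category.assoc, pullback.condition, pullback.condition, ← Category.assoc]
    congr 1
    exact Over.w e)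

theorem famOfBC_equivariant (e : NonAbH1.EquivIso (a.bc f) (a'.bc f)) (Z : Over S) (h : Z ⟶ G) (x : Z ⟶ P)
    (t : Z ⟶ Over.mk f) :
    lift (lift h x ≫ a.act) t ≫ famOfBC f e.iso.hom =
      lift h (lift x t ≫ famOfBC f e.iso.hom) ≫ a'.act := by
  let t' : Z.left ⟶ S' := t.left
  let T' : Over S' := Over.mk t'
  let Z₀ : Over S := (Over.map f).obj T'
  let σ : Z ⟶ Z₀ := Over.homMk (𝟙 Z.left) (by
    show 𝟙 Z.left ≫ t' ≫ f = Z.hom
    rw [Category.id_comp]
    exact Over.w t)
  let lift₀ : ∀ {Y : Over S}, (Z ⟶ Y) → (Z₀ ⟶ Y) := fun {Y} y => Over.homMk y.left (by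
    show y.left ≫ Y.hom = t' ≫ f
    rw [Over.w y]
    exact (Over.w t).symm)
  have hσ : ∀ {Y : Over S} (y : Z ⟶ Y), σ ≫ lift₀ y = y := fun y =>
    Over.OverMorphism.ext (Category.id_comp _)
  let he := fun (Y : Over S) => (Over.mapPullbackAdj f).homEquiv T' Y
  have hleft : ∀ {Y : Over S} (m : T' ⟶ (Over.pullback f).obj Y),
      ((he Y).symm m).left = m.left ≫ pullback.fst Y.hom f := fun {Y} m => by
    rw [Adjunction.homEquiv_counit]
    simp
  have heleft : ∀ {Y : Over S} (y : Z₀ ⟶ Y), (he Y y).left ≫ pullback.fst Y.hom f = y.left := fun {Y} y => by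
    rw [← hleft, Equiv.symm_apply_apply]
  have key : ∀ y : Z ⟶ P,
      σ ≫ (he Q).symm (he P (lift₀ y) ≫ e.iso.hom) = lift y t ≫ famOfBC f e.iso.hom := by
    intro y
    apply Over.OverMorphism.ext
    rw [Over.comp_left, Over.comp_left, hleft, Over.comp_left]
    show 𝟙 Z.left ≫ ((he P (lift₀ y)).left ≫ e.iso.hom.left) ≫ pullback.fst Q.hom f =
      (lift y t).left ≫ (e.iso.hom.left : pullback P.hom f ⟶ pullback Q.hom f) ≫ pullback.fst Q.hom f
    rw [Category.id_comp, Category.assoc]
    congr 1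
    apply pullback.hom_ext
    · exact (heleft _).trans (congrArg CommaMorphism.left (lift_fst y t)).symm
    · exact (Over.w (he P (lift₀ y))).trans (congrArg CommaMorphism.left (lift_snd y t)).symm
  have hact : lift₀ (lift h x ≫ a.act) = lift (lift₀ h) (lift₀ x) ≫ a.act := by
    refine Over.OverMorphism.ext ?_
    show (lift h x ≫ a.act).left = (lift (lift₀ h) (lift₀ x) ≫ a.act).left
    rw [Over.comp_left, Over.comp_left]
    rfl
  have hbc : he Q ((he Q).symm (he P (lift₀ (lift h x ≫ a.act)) ≫ e.iso.hom)) =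
      he Q (lift (lift₀ h) ((he Q).symm (he P (lift₀ x) ≫ e.iso.hom)) ≫ a'.act) := by
    rw [Equiv.apply_symm_apply, hact, ← AlgGrp.Action.lift_homEquiv_bc_act f a,
      ← AlgGrp.Action.lift_homEquiv_bc_act f a', Equiv.apply_symm_apply, Category.assoc, e.comm,
      lift_whiskerLeft_assoc]
  rw [← key, (he Q).injective hbc, comp_lift_assoc, key, hσ]

end Groth.Agent.TorsNorm28
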