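import Groth.Agent.TorsNorm28.IntClosure
import Groth.Agent.TorsNorm28.FromBC
import Groth.Agent.TorsNorm28.FinitePoint

/-!
Torsors under proper flat groups over Dedekind domains are determined by their generic fibres.
-/

universe u

open CategoryTheory MonoidalCategory CartesianMonoidalCategory MonObj GrpObj AlgebraicGeometry
open CategoryTheory.Limits

set_option linter.style.haveILetI false

namespace Groth.Agent.TorsNorm28

theorem nonempty_equivIso_of_dedekind (R : Type u) [CommRing R] [IsDedekindDomain R]
    (G : Over (Spec (CommRingCat.of R))) [GrpObj G] [IsProper G.hom] [Flat G.hom]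
    (P Q : NonAbH1.TorsorSch G Scheme.fppfPrecoverage)
    (e : NonAbH1.EquivIso (P.act.bc (Neron.genPt R)) (Q.act.bc (Neron.genPt R))) :
    Nonempty (NonAbH1.EquivIso P.act Q.act) := by
  have hP := toFpqc P.isTorsor
  haveI : IsProper P.X.hom := isProper_hom hP
  haveI : IsProper Q.X.hom := isProper_hom (toFpqc Q.isTorsor)
  haveI : Surjective P.X.hom := Groth.Agent.SchTorsor.surjective_hom hP
  haveI : Flat P.X.hom := Groth.Agent.SchTorsor.torsor_property @Flat hP inferInstance
  let K := FractionRing R
  let E : Over (Spec (CommRingCat.of R)) := Over.mk (Neron.genPt R)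
  haveI : IsSchemeTheoreticallyDominant E.hom := sd_specMap_fractionRing (R := R) (K := K)
  haveI : QuasiCompact E.hom := inferInstanceAs (QuasiCompact (Neron.genPt R))
  let φ : P.X ⊗ E ⟶ Q.X := famOfBC (Neron.genPt R) e.iso.hom
  have hφ := famOfBC_equivariant (Neron.genPt R) e
  let gK : Limits.pullback P.X.hom (Neron.genPt R) ⟶ Spec (CommRingCat.of K) :=
    Limits.pullback.snd P.X.hom (Neron.genPt R)
  haveI : Nonempty (Limits.pullback P.X.hom (Neron.genPt R) : Scheme.{u}) :=
    ⟨(gK.surjective (IsLocalRing.closedPoint K)).choose⟩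
  obtain ⟨L, _, _, _, pt, hpt⟩ := exists_finite_point K gK
  letI : Algebra R L := ((algebraMap K L).comp (algebraMap R K)).toAlgebra
  haveI : IsScalarTower R K L := IsScalarTower.of_algebraMap_eq fun _ => rfl
  haveI : IsDedekindDomain (integralClosure R L) := isDedekindDomain_integralClosure_finite R K L
  haveI : IsFractionRing (integralClosure R L) L :=
    integralClosure.isFractionRing_of_finite_extension K L
  let T : Over (Spec (CommRingCat.of R)) := Over.mk (icBase R L)
  let W : Over (Spec (CommRingCat.of R)) := Over.mk (Spec.map (CommRingCat.ofHom (algebraMap R L)))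
  let jT : W ⟶ T := Over.homMk (icPt R L) (icPt_icBase R L)
  let jE : W ⟶ E := Over.homMk (Spec.map (CommRingCat.ofHom (algebraMap K L))) (by
    show Spec.map (CommRingCat.ofHom (algebraMap K L)) ≫ Neron.genPt R = _
    rw [Neron.genPt, ← Spec.map_comp]
    rfl)
  let p₀ : W ⟶ P.X := Over.homMk (pt ≫ Limits.pullback.fst P.X.hom (Neron.genPt R)) (by
    rw [Category.assoc, Limits.pullback.condition, reassoc_of% hpt]
    exact Over.w jE)
  let q₀ : W ⟶ Q.X := lift p₀ jE ≫ φ
  have hlift : ∀ (Y : Over (Spec (CommRingCat.of R))) [IsProper Y.hom] (y₀ : W ⟶ Y),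
      ∃ y : T ⟶ Y, jT ≫ y = y₀ := by
    intro Y _ y₀
    obtain ⟨σ, hσ, hσt⟩ := exists_lift_dedekind (integralClosure R L) L
      (Limits.pullback.snd Y.hom (icBase R L))
      (Limits.pullback.lift y₀.left (icPt R L) ((Over.w y₀).trans (icPt_icBase R L).symm))
      (Limits.pullback.lift_snd _ _ _)
    refine ⟨Over.homMk (σ ≫ Limits.pullback.fst Y.hom (icBase R L)) ?_, ?_⟩
    · show (σ ≫ Limits.pullback.fst Y.hom (icBase R L)) ≫ Y.hom = icBase R L
      rw [Category.assoc, Limits.pullback.condition, reassoc_of% hσ]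
    · apply Over.OverMorphism.ext
      show icPt R L ≫ σ ≫ Limits.pullback.fst Y.hom (icBase R L) = y₀.left
      rw [← Category.assoc]
      exact (congrArg (· ≫ Limits.pullback.fst Y.hom (icBase R L)) hσt).trans (Limits.pullback.lift_fst _ _ _)
  obtain ⟨p, hp⟩ := hlift P.X p₀
  obtain ⟨q, hq⟩ := hlift Q.X q₀
  let w : W ⟶ T ⊗ E := lift jT jE
  haveI : IsSchemeTheoreticallyDominant w.left :=
    dominant_generic_integralClosure R L K w.left (congrArg CommaMorphism.left (lift_fst jT jE))
      (congrArg CommaMorphism.left (lift_snd jT jE))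
  obtain ⟨Φ, hΦ⟩ := exists_extension_aux P.isTorsor.1 φ hφ p q w (by
    rw [lift_fst_assoc, comp_lift_assoc, lift_fst_assoc, lift_snd, hq, hp])
  have hff : Flat T.hom ∧ Surjective T.hom := by
    refine (flat_and_surjective_SpecMap_iff _).2 (Groth.Agent.LineSub.faithfullyFlat_of_integral _ ?_ ?_)
    · intro x y hxy
      have h := congrArg Subtype.val hxy
      exact IsFractionRing.injective R K ((algebraMap K L).injective h)
    · exact algebraMap_isIntegral_iff.2 inferInstance
  haveI := hff.1
  haveI := hff.2
  haveI : QuasiCompact T.hom := inferInstanceAs (QuasiCompact (icBase R L))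
  exact nonempty_equivIso_of_extension hP Q.isTorsor.1 φ hφ (exists_extension_descend φ Φ hΦ)

end Groth.Agent.TorsNorm28
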