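import Groth.Agent.TorsNorm28.Dedekind
import Groth.Agent.KrullAkiExt.Basic
import Groth.Agent.LineSub.Common
import Mathlib.AlgebraicGeometry.Pullbacks
import Mathlib.AlgebraicGeometry.Morphisms.Integral
import Mathlib.AlgebraicGeometry.Morphisms.SchemeTheoreticallyDominant
import Mathlib.AlgebraicGeometry.AlgClosed.Basic
import Mathlib.RingTheory.IntegralClosure.IntegrallyClosed
import Mathlib.RingTheory.Flat.Localization

/-!
Integral closures of a base domain in field extensions, as auxiliary bases.
-/

universe u

open CategoryTheory CategoryTheory.Limits AlgebraicGeometry TensorProduct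

set_option linter.style.haveILetI false

namespace Groth.Agent.TorsNorm28

theorem isDedekindDomain_integralClosure_finite (R K L : Type u) [CommRing R] [IsDedekindDomain R] [Field K]
    [Algebra R K] [IsFractionRing R K] [Field L] [Algebra K L] [FiniteDimensional K L] [Algebra R L]
    [IsScalarTower R K L] : IsDedekindDomain (integralClosure R L) := by
  haveI : Ring.KrullDimLE 1 R := Ring.krullDimLE_one_iff_of_noZeroDivisors.2 fun I hI hp => hp.isMaximal hI
  have hinj : Function.Injective (algebraMap (integralClosure R L) L) := Subtype.val_injective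
  haveI : IsNoetherianRing (integralClosure R L) :=
    Groth.Agent.KrullAkiExt.isNoetherianRing_of_injective (R := R) (K := K) L _ hinj
  haveI : IsIntegrallyClosed (integralClosure R L) :=
    integralClosure.isIntegrallyClosedOfFiniteExtension K
  have hd : ∀ {P : Ideal (integralClosure R L)}, P ≠ ⊥ → P.IsPrime → P.IsMaximal := fun {P} hP hp => by
    haveI := hp
    obtain ⟨a, ha, haP⟩ := Groth.Agent.KrullAkiExt.exists_ne_zero_mem (R := R) (K := K) L _ hinj hP
    refine Ideal.isMaximal_of_isIntegral_of_isMaximal_comap (R := R) P ?_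
    exact (inferInstance : (P.comap (algebraMap R _)).IsPrime).isMaximal fun h =>
      ha (Ideal.mem_bot.1 (h ▸ Ideal.mem_comap.2 haP))
  exact { maximalOfPrime := hd }

/-- A point of a proper scheme with values in the fraction field of a Dedekind domain extends. -/
theorem exists_lift_dedekind (R L : Type u) [CommRing R] [IsDedekindDomain R] [Field L] [Algebra R L]
    [IsFractionRing R L] {Y : Scheme.{u}} (g : Y ⟶ Spec (CommRingCat.of R)) [IsProper g]
    (t : Spec (CommRingCat.of L) ⟶ Y) (ht : t ≫ g = Spec.map (CommRingCat.ofHom (algebraMap R L))) :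
    ∃ σ : Spec (CommRingCat.of R) ⟶ Y, σ ≫ g = 𝟙 _ ∧
      Spec.map (CommRingCat.ofHom (algebraMap R L)) ≫ σ = t := by
  let e : FractionRing R ≃ₐ[R] L := FractionRing.algEquiv R L
  let ε : CommRingCat.of (FractionRing R) ≅ CommRingCat.of L := e.toRingEquiv.toCommRingCatIso
  have hε : Spec.map ε.hom ≫ Neron.genPt R = Spec.map (CommRingCat.ofHom (algebraMap R L)) := by
    unfold Neron.genPt
    rw [← Spec.map_comp]
    congr 1
    ext a
    exact e.commutes a
  obtain ⟨σ, hσ, hσt⟩ := exists_section_dedekind R g (Spec.map ε.inv ≫ t) (by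
    rw [Category.assoc, ht, ← hε, ← Spec.map_comp_assoc, Iso.hom_inv_id, Spec.map_id, Category.id_comp])
  exact ⟨σ, hσ, by rw [← hε, Category.assoc, hσt, ← Spec.map_comp_assoc, Iso.inv_hom_id, Spec.map_id, Category.id_comp]⟩

variable (R : Type u) [CommRing R] (L : Type u) [Field L] [Algebra R L]

/-- The inclusion of the integral closure, on spectra. -/
noncomputable abbrev icPt : Spec (CommRingCat.of L) ⟶ Spec (CommRingCat.of (integralClosure R L)) :=
  Spec.map (CommRingCat.ofHom (algebraMap (integralClosure R L) L))

/-- The structure map of the integral closure, on spectra. -/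
noncomputable abbrev icBase : Spec (CommRingCat.of (integralClosure R L)) ⟶ Spec (CommRingCat.of R) :=
  Spec.map (CommRingCat.ofHom (algebraMap R (integralClosure R L)))

theorem icPt_icBase : icPt R L ≫ icBase R L = Spec.map (CommRingCat.ofHom (algebraMap R L)) := by
  rw [icPt, icBase, ← Spec.map_comp]; rfl

/-- Field points of schemes integral over the base factor through the integral closure. -/
theorem exists_lift_integral {Y : Scheme.{u}} (g : Y ⟶ Spec (CommRingCat.of R)) [IsIntegralHom g]
    (t : Spec (CommRingCat.of L) ⟶ Y) (ht : t ≫ g = Spec.map (CommRingCat.ofHom (algebraMap R L))) :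
    ∃ q : Spec (CommRingCat.of (integralClosure R L)) ⟶ Y, q ≫ g = icBase R L ∧ icPt R L ≫ q = t := by
  haveI : IsAffine Y := isAffine_of_isAffineHom g
  obtain ⟨φ, hφ⟩ := Spec.map_surjective (Y.isoSpec.inv ≫ g)
  obtain ⟨ψ, hψ⟩ := Spec.map_surjective (t ≫ Y.isoSpec.hom)
  have hint : φ.hom.IsIntegral := by
    have : IsIntegralHom (Spec.map φ) := by rw [hφ]; infer_instance
    exact IsIntegralHom.SpecMap_iff.1 this
  have hcomp : φ ≫ ψ = CommRingCat.ofHom (algebraMap R L) := Spec.map_injective (by
    rw [Spec.map_comp, hφ, hψ, Category.assoc, Iso.hom_inv_id_assoc, ht])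
  have hmem : ∀ b, ψ.hom b ∈ integralClosure R L := fun b => by
    obtain ⟨p, hp, hpb⟩ := hint b
    refine ⟨p, hp, ?_⟩
    have h := congrArg ψ.hom hpb
    rw [map_zero, Polynomial.hom_eval₂, ← CommRingCat.hom_comp, hcomp] at h
    exact h
  let ψ' : Γ(Y, ⊤) ⟶ CommRingCat.of (integralClosure R L) :=
    CommRingCat.ofHom (ψ.hom.codRestrict (integralClosure R L).toSubring hmem)
  refine ⟨Spec.map ψ' ≫ Y.isoSpec.inv, ?_, ?_⟩
  · rw [Category.assoc, ← hφ, ← Spec.map_comp]
    congr 1
    ext a
    exact congr($(hcomp).hom a)
  · rw [← cancel_mono Y.isoSpec.hom, ← hψ, Category.assoc, Category.assoc, Iso.inv_hom_id, Category.comp_id,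
      ← Spec.map_comp]
    rfl

variable (K : Type u) [Field K] [Algebra R K] [IsFractionRing R K] [Algebra K L] [IsScalarTower R K L]

theorem injective_tensor_integralClosure :
    Function.Injective (Algebra.TensorProduct.lift (IsScalarTower.toAlgHom R (integralClosure R L) L)
      (IsScalarTower.toAlgHom R K L) fun _ _ => Commute.all _ _) := by
  haveI : Module.Flat R K := IsLocalization.flat K (nonZeroDivisors R)
  rw [injective_iff_map_eq_zero]
  intro z hz
  let B := integralClosure R L
  haveI : IsLocalization (Algebra.algebraMapSubmonoid B (nonZeroDivisors R)) (B ⊗[R] K) :=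
    IsLocalization.tensor K (nonZeroDivisors R)
  obtain ⟨⟨b, s, hs⟩, hb⟩ := IsLocalization.surj (Algebra.algebraMapSubmonoid B (nonZeroDivisors R)) z
  have hb' : b = 0 := by
    refine Subtype.ext ?_
    have h := congrArg (Algebra.TensorProduct.lift (IsScalarTower.toAlgHom R B L)
      (IsScalarTower.toAlgHom R K L) fun _ _ => Commute.all _ _) hb
    rw [map_mul, hz, zero_mul] at h
    simpa [Algebra.TensorProduct.algebraMap_apply] using h.symm
  have hu := IsLocalization.map_units (B ⊗[R] K) (⟨s, hs⟩ : Algebra.algebraMapSubmonoid B (nonZeroDivisors R))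
  rw [hb', map_zero] at hb
  exact (hu.mul_left_eq_zero).1 hb

/-- The generic fibre of the integral closure is scheme-theoretically dominated by the field. -/
theorem dominant_generic_integralClosure
    (j : Spec (CommRingCat.of L) ⟶ pullback (icBase R L) (Spec.map (CommRingCat.ofHom (algebraMap R K))))
    (h1 : j ≫ pullback.fst _ _ = icPt R L)
    (h2 : j ≫ pullback.snd _ _ = Spec.map (CommRingCat.ofHom (algebraMap K L))) :
    IsSchemeTheoreticallyDominant j := by
  let f := Algebra.TensorProduct.lift (IsScalarTower.toAlgHom R (integralClosure R L) L)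
    (IsScalarTower.toAlgHom R K L) fun _ _ => Commute.all _ _
  have hj : j = Spec.map (CommRingCat.ofHom f.toRingHom) ≫ (pullbackSpecIso R (integralClosure R L) K).inv := by
    apply pullback.hom_ext
    · rw [h1, Category.assoc]
      refine Eq.trans ?_ (congrArg _ (pullbackSpecIso_inv_fst R (integralClosure R L) K)).symm
      rw [← Spec.map_comp, icPt]
      congr 1
      ext a
      exact (show f (a ⊗ₜ 1) = algebraMap (integralClosure R L) L a by simp [f]).symm
    · rw [h2, Category.assoc]
      refine Eq.trans ?_ (congrArg _ (pullbackSpecIso_inv_snd R (integralClosure R L) K)).symm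
      rw [← Spec.map_comp]
      congr 1
      ext a
      exact (show f (1 ⊗ₜ a) = algebraMap K L a by simp [f]).symm
  have hdom : IsSchemeTheoreticallyDominant (Spec.map (CommRingCat.ofHom f.toRingHom)) := by
    rw [isSchemeTheoreticallyDominant_iff]
    apply Scheme.IdealSheafData.ext_of_isAffine
    rw [Scheme.Hom.ker_apply, Scheme.IdealSheafData.ideal_bot, Pi.bot_apply, ← RingHom.injective_iff_ker_eq_bot]
    have e := Scheme.ΓSpecIso_naturality (CommRingCat.ofHom f.toRingHom)
    intro a b hab
    apply (Scheme.ΓSpecIso _).commRingCatIsoToRingEquiv.injective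
    apply injective_tensor_integralClosure R L K
    have ha := congr($(e).hom a)
    have hb := congr($(e).hom b)
    simp only [CommRingCat.hom_comp, RingHom.comp_apply] at ha hb
    exact ha.symm.trans ((congrArg _ hab).trans hb)
  rw [hj]
  infer_instance

end Groth.Agent.TorsNorm28
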