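import Groth.Agent.TorsNorm28.Basic
import Groth.Agent.H23.QCCrit
import Groth.Prelude.Def_ActBC
import Mathlib.AlgebraicGeometry.Morphisms.UniversallyOpen
import Mathlib.AlgebraicGeometry.Morphisms.QuasiFinite
import Mathlib.AlgebraicGeometry.Artinian

/-!
Fibre products of pointed torsors under finite group schemes over a field.
-/

universe u

open CategoryTheory MonoidalCategory CartesianMonoidalCategory MonObj GrpObj AlgebraicGeometry
open CategoryTheory.Limits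

set_option linter.style.haveILetI false

namespace Groth.Agent.TorsNorm28

theorem lfp_of_lft_noetherian {X Y : Scheme.{u}} (f : X ⟶ Y) [IsLocallyNoetherian Y] [LocallyOfFiniteType f] :
    LocallyOfFinitePresentation f := by
  rw [HasRingHomProperty.iff_appLE (P := @LocallyOfFinitePresentation)]
  intro U V e
  have hU : IsNoetherianRing Γ(Y, U) := IsLocallyNoetherian.component_noetherian U
  exact (RingHom.FinitePresentation.of_finiteType).1 (HasRingHomProperty.appLE @LocallyOfFiniteType f ‹_› U V e)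

theorem lfp_hom {S : Scheme.{u}} {G X : Over S} [GrpObj G] {a : AlgGrp.Action G X}
    (ha : NonAbH1.IsTorsorFor Scheme.fpqcPrecoverage a) [LocallyOfFinitePresentation G.hom] :
    LocallyOfFinitePresentation X.hom :=
  Groth.Agent.SchTorsor.torsor_property @LocallyOfFinitePresentation ha inferInstance

/-- Points of the pullback of a group along a morphism. -/
noncomputable def pointEquiv {B X : Scheme.{u}} (q : X ⟶ B) (G : Over B) [GrpObj G] (T : Over X) :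
    ((Over.map q).obj T ⟶ G) ≃* (T ⟶ Red.bc q G) where
  toEquiv := (Over.mapPullbackAdj q).homEquiv T G
  map_mul' := AlgGrp.Action.homEquiv_mul q

theorem pointEquiv_map {B X : Scheme.{u}} (q : X ⟶ B) {G G' : Over B} [GrpObj G] [GrpObj G'] (φ : G ⟶ G')
    {T : Over X} (g : (Over.map q).obj T ⟶ G) :
    pointEquiv q G T g ≫ (Over.pullback q).map φ = pointEquiv q G' T (g ≫ φ) :=
  ((Over.mapPullbackAdj q).homEquiv_naturality_right g φ).symm

theorem pointEquiv_symm_left {B X : Scheme.{u}} (q : X ⟶ B) {G : Over B} [GrpObj G] {T : Over X}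
    (g : T ⟶ Red.bc q G) :
    ((pointEquiv q G T).symm g).left = g.left ≫ Limits.pullback.fst G.hom q := by
  show (((Over.mapPullbackAdj q).homEquiv T G).symm g).left = _
  rw [Adjunction.homEquiv_counit]
  simp

variable {k : Type u} [Field k] {X : Scheme.{u}} (q : X ⟶ Spec (CommRingCat.of k))
  {G G₁ G₂ : Over (Spec (CommRingCat.of k))} [GrpObj G] [GrpObj G₁] [GrpObj G₂]

section Orbit

variable (φ₁ : G₁ ⟶ G) (φ₂ : G₂ ⟶ G)

/-- The map whose image is the orbit of the neutral element. -/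
noncomputable def orbitMap : G₁ ⊗ G₂ ⟶ G := (fst G₁ G₂ ≫ φ₁) * (snd G₁ G₂ ≫ φ₂)⁻¹

variable [IsMonHom φ₁] [IsMonHom φ₂]

theorem comp_orbitMap {Z : Over (Spec (CommRingCat.of k))} (a : Z ⟶ G₁) (b : Z ⟶ G₂) :
    lift a b ≫ orbitMap φ₁ φ₂ = (a ≫ φ₁) * (b ≫ φ₂)⁻¹ := by
  simp [orbitMap, comp_mul, comp_inv]

variable [IsFinite G.hom] [IsFinite G₁.hom] [IsFinite G₂.hom]

theorem discrete_left (H : Over (Spec (CommRingCat.of k))) [IsFinite H.hom] : DiscreteTopology H.left := by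
  haveI : LocallyQuasiFinite H.hom := inferInstance
  haveI : IsLocallyArtinian H.left := IsLocallyArtinian.of_locallyQuasiFinite H.hom
  infer_instance

theorem exists_orbit_lift {Ω : Type u} [Field Ω] [IsAlgClosed Ω] {Z : Over (Spec (CommRingCat.of k))}
    (e : Z.left = Spec (CommRingCat.of Ω)) (γ : Z ⟶ G)
    (hγ : ∀ p, γ.left p ∈ Set.range (orbitMap φ₁ φ₂).left) :
    ∃ (a : Z ⟶ G₁) (b : Z ⟶ G₂), γ = (a ≫ φ₁) * (b ≫ φ₂)⁻¹ := by
  let μo := (orbitMap φ₁ φ₂).left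
  haveI : IsFinite (G₁ ⊗ G₂).hom :=
    inferInstanceAs (IsFinite (Limits.pullback.fst G₁.hom G₂.hom ≫ G₁.hom))
  haveI : LocallyOfFiniteType (μo ≫ G.hom) := by
    rw [Over.w (orbitMap φ₁ φ₂)]; infer_instance
  haveI : LocallyOfFiniteType μo := locallyOfFiniteType_of_comp μo G.hom
  let y : Spec (CommRingCat.of Ω) ⟶ G.left := eqToHom e.symm ≫ γ.left
  haveI : Surjective (Limits.pullback.snd μo y) := ⟨fun p => by
    obtain ⟨w, hw⟩ := hγ ((eqToHom e.symm) p)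
    obtain ⟨z, -, hz⟩ := Scheme.Pullback.exists_preimage_pullback (f := μo) (g := y) w p
      (hw.trans (Scheme.Hom.comp_apply _ _ p).symm)
    exact ⟨z, hz⟩⟩
  obtain ⟨x, hx⟩ := Groth.Agent.H23.QCCrit.exists_geomPoint_lift (Limits.pullback.snd μo y) Ω (𝟙 _)
  have hxμ : (eqToHom e ≫ x ≫ Limits.pullback.fst μo y) ≫ μo = γ.left := by
    rw [Category.assoc, Category.assoc, Limits.pullback.condition, reassoc_of% hx]
    simp [y]
  let w : Z ⟶ G₁ ⊗ G₂ := Over.homMk (eqToHom e ≫ x ≫ Limits.pullback.fst μo y) (by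
    rw [← Over.w (orbitMap φ₁ φ₂), ← Category.assoc, show (eqToHom e ≫ x ≫ Limits.pullback.fst μo y) ≫ (orbitMap φ₁ φ₂).left = γ.left from hxμ]
    exact Over.w γ)
  refine ⟨w ≫ fst G₁ G₂, w ≫ snd G₁ G₂, ?_⟩
  rw [← comp_orbitMap, lift_comp_fst_snd]
  exact Over.OverMorphism.ext hxμ.symm

end Orbit

variable [IsFinite G.hom] [IsFinite G₁.hom] [IsFinite G₂.hom]
  {φ₁ : G₁ ⟶ G} {φ₂ : G₂ ⟶ G} [IsMonHom φ₁] [IsMonHom φ₂] {T T₁ T₂ : Over X}
  {a : AlgGrp.Action (Red.bc q G) T} {a₁ : AlgGrp.Action (Red.bc q G₁) T₁} {a₂ : AlgGrp.Action (Red.bc q G₂) T₂}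
  {f₁ : T₁ ⟶ T} {f₂ : T₂ ⟶ T}

omit [IsFinite G.hom] in
theorem equivariant_pt {H : Over (Spec (CommRingCat.of k))} [GrpObj H] {φ : H ⟶ G} [IsMonHom φ] {Y : Over X}
    {b : AlgGrp.Action (Red.bc q H) Y} {f : Y ⟶ T}
    (hf : AlgGrp.Action.IsEquivariant b (a.restrict ((Over.pullback q).map φ)) f)
    {Z : Over X} (g : Z ⟶ Red.bc q H) (y : Z ⟶ Y) :
    (lift g y ≫ b.act) ≫ f = lift (g ≫ (Over.pullback q).map φ) (y ≫ f) ≫ a.act := by
  rw [Category.assoc, hf, lift_whiskerLeft_assoc, AlgGrp.Action.lift_restrict_act]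

theorem surjective_fibreProd [ConnectedSpace X] (hT : NonAbH1.IsTorsorFor Scheme.fppfPrecoverage a)
    (hT₁ : NonAbH1.IsTorsorFor Scheme.fppfPrecoverage a₁) (hT₂ : NonAbH1.IsTorsorFor Scheme.fppfPrecoverage a₂)
    (hf₁ : AlgGrp.Action.IsEquivariant a₁ (a.restrict ((Over.pullback q).map φ₁)) f₁)
    (hf₂ : AlgGrp.Action.IsEquivariant a₂ (a.restrict ((Over.pullback q).map φ₂)) f₂)
    (x : Spec (CommRingCat.of k) ⟶ X) (t₁ : Spec (CommRingCat.of k) ⟶ T₁.left)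
    (t₂ : Spec (CommRingCat.of k) ⟶ T₂.left) (h₁ : t₁ ≫ T₁.hom = x) (h₂ : t₂ ≫ T₂.hom = x)
    (h : t₁ ≫ f₁.left = t₂ ≫ f₂.left) : Surjective (pullback f₁ f₂).hom := by
  obtain ⟨d, hd⟩ := Groth.Agent.SchTorsor.exists_div hT.1 (fst T₁ T₂ ≫ f₁) (snd T₁ T₂ ≫ f₂)
  have hdpt : ∀ {Z : Over X} (p₁ : Z ⟶ T₁) (p₂ : Z ⟶ T₂),
      lift (lift p₁ p₂ ≫ d) (p₂ ≫ f₂) ≫ a.act = p₁ ≫ f₁ := fun p₁ p₂ => by
    have h := congrArg (lift p₁ p₂ ≫ ·) hd
    simp only [comp_lift_assoc, lift_snd_assoc, lift_fst_assoc] at h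
    exact h
  let δ : (T₁ ⊗ T₂).left ⟶ G.left := d.left ≫ Limits.pullback.fst G.hom q
  let C : Set G.left := Set.range (orbitMap φ₁ φ₂).left
  haveI := discrete_left G
  let W : Set (T₁ ⊗ T₂).left := δ ⁻¹' C
  have hWo : IsOpen W := (isOpen_discrete C).preimage δ.continuous
  have hWc : IsClosed W := (isClosed_discrete C).preimage δ.continuous
  have hfin : ∀ (H : Over (Spec (CommRingCat.of k))) [GrpObj H] [IsFinite H.hom] (Y : Over X)
      (b : AlgGrp.Action (Red.bc q H) Y), NonAbH1.IsTorsorFor Scheme.fppfPrecoverage b →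
      IsFinite Y.hom ∧ Flat Y.hom ∧ LocallyOfFinitePresentation Y.hom ∧ Surjective Y.hom := by
    intro H _ _ Y b hb
    haveI : Flat H.hom := inferInstance
    haveI : LocallyOfFinitePresentation H.hom := lfp_of_lft_noetherian H.hom
    haveI : IsFinite (Red.bc q H).hom := inferInstanceAs (IsFinite (Limits.pullback.snd H.hom q))
    haveI : Flat (Red.bc q H).hom := inferInstanceAs (Flat (Limits.pullback.snd H.hom q))
    haveI : LocallyOfFinitePresentation (Red.bc q H).hom :=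
      inferInstanceAs (LocallyOfFinitePresentation (Limits.pullback.snd H.hom q))
    exact ⟨isFinite_hom (toFpqc hb), Groth.Agent.SchTorsor.torsor_property @Flat (toFpqc hb) inferInstance,
      lfp_hom (toFpqc hb), Groth.Agent.SchTorsor.surjective_hom (toFpqc hb)⟩
  obtain ⟨_, _, _, _⟩ := hfin G₁ T₁ a₁ hT₁
  obtain ⟨_, _, _, _⟩ := hfin G₂ T₂ a₂ hT₂
  let π : (T₁ ⊗ T₂).left ⟶ X := Limits.pullback.fst T₁.hom T₂.hom ≫ T₁.hom
  haveI : Surjective π := inferInstance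
  haveI : Flat π := inferInstance
  haveI : LocallyOfFinitePresentation π := inferInstance
  haveI : IsFinite π := inferInstance
  have hgeom : ∀ {Ω : Type u} [Field Ω] [IsAlgClosed Ω] (pt : Spec (CommRingCat.of Ω) ⟶ X)
      (p₁ : Over.mk pt ⟶ T₁) (p₂ : Over.mk pt ⟶ T₂) (s : Spec (CommRingCat.of Ω)),
      (lift p₁ p₂).left s ∈ W → ∃ (a : (Over.map q).obj (Over.mk pt) ⟶ G₁) (b : (Over.map q).obj (Over.mk pt) ⟶ G₂),
        (pointEquiv q G (Over.mk pt)).symm (lift p₁ p₂ ≫ d) = (a ≫ φ₁) * (b ≫ φ₂)⁻¹ := by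
    intro Ω _ _ pt p₁ p₂ s hs
    refine exists_orbit_lift φ₁ φ₂ (Z := (Over.map q).obj (Over.mk pt)) rfl _ fun p => ?_
    rw [pointEquiv_symm_left]
    have : p = s := Subsingleton.elim (α := PrimeSpectrum Ω) p s
    subst this
    exact hs
  have hsat : ∀ e e' : (T₁ ⊗ T₂).left, π e = π e' → e ∈ W → e' ∈ W := by
    intro e e' he heW
    obtain ⟨z, hz, hz'⟩ := Scheme.Pullback.exists_preimage_pullback (f := π) (g := π) e e' he
    let Ω := AlgebraicClosure ((Limits.pullback π π).residueField z)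
    let ω : Spec (CommRingCat.of Ω) ⟶ Limits.pullback π π :=
      Spec.map (CommRingCat.ofHom (algebraMap ((Limits.pullback π π).residueField z) Ω)) ≫
        (Limits.pullback π π).fromSpecResidueField z
    let s : Spec (CommRingCat.of Ω) := IsLocalRing.closedPoint Ω
    have hω : ω s = z := by
      rw [Scheme.Hom.comp_apply, Scheme.fromSpecResidueField_apply]
    let pt : Spec (CommRingCat.of Ω) ⟶ X := ω ≫ Limits.pullback.fst π π ≫ π
    let u : Over.mk pt ⟶ T₁ ⊗ T₂ := Over.homMk (ω ≫ Limits.pullback.fst π π) (Category.assoc _ _ _)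
    let u' : Over.mk pt ⟶ T₁ ⊗ T₂ := Over.homMk (ω ≫ Limits.pullback.snd π π) (by
      show (ω ≫ Limits.pullback.snd π π) ≫ π = ω ≫ Limits.pullback.fst π π ≫ π
      rw [Category.assoc, Limits.pullback.condition])
    have hu : u.left s = e := by
      show (ω ≫ Limits.pullback.fst π π) s = e
      rw [Scheme.Hom.comp_apply, hω, hz]
    have hu' : u'.left s = e' := by
      show (ω ≫ Limits.pullback.snd π π) s = e'
      rw [Scheme.Hom.comp_apply, hω, hz']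
    obtain ⟨α, β, hαβ⟩ := hgeom pt (u ≫ fst T₁ T₂) (u ≫ snd T₁ T₂) s (by
      rw [lift_comp_fst_snd, hu]; exact heW)
    obtain ⟨g₁, hg₁⟩ := Groth.Agent.SchTorsor.exists_div hT₁.1 (u' ≫ fst T₁ T₂) (u ≫ fst T₁ T₂)
    obtain ⟨g₂, hg₂⟩ := Groth.Agent.SchTorsor.exists_div hT₂.1 (u' ≫ snd T₁ T₂) (u ≫ snd T₁ T₂)
    let E₁ := pointEquiv q G₁ (Over.mk pt)
    let E₂ := pointEquiv q G₂ (Over.mk pt)
    let E := pointEquiv q G (Over.mk pt)
    obtain ⟨h₁', rfl⟩ := E₁.surjective g₁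
    obtain ⟨h₂', rfl⟩ := E₂.surjective g₂
    have key : u' ≫ d = E ((h₁' ≫ φ₁) * ((α ≫ φ₁) * (β ≫ φ₂)⁻¹) * (h₂' ≫ φ₂)⁻¹) := by
      rw [← hαβ, lift_comp_fst_snd, map_mul, map_mul, map_inv, MulEquiv.apply_symm_apply]
      refine Groth.Agent.SchTorsor.act_free hT.1 (y := u' ≫ snd T₁ T₂ ≫ f₂) ?_
      have h0 := hdpt (u' ≫ fst T₁ T₂) (u' ≫ snd T₁ T₂)
      rw [lift_comp_fst_snd] at h0
      rw [← Category.assoc, h0, ← hg₁, ← hg₂, equivariant_pt q hf₁, equivariant_pt q hf₂, pointEquiv_map,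
        pointEquiv_map, ← hdpt (u ≫ fst T₁ T₂) (u ≫ snd T₁ T₂), lift_comp_fst_snd,
        ← Groth.Agent.SchTorsor.act_assoc, ← Groth.Agent.SchTorsor.act_assoc]
      congr 2
      simp only [E]
      group
    have key' : (pointEquiv q G (Over.mk pt)).symm (u' ≫ d) =
        lift (h₁' * α) (h₂' * β) ≫ orbitMap φ₁ φ₂ := by
      rw [key, MulEquiv.symm_apply_apply, comp_orbitMap, MonObj.mul_comp, MonObj.mul_comp]
      group
    refine ⟨(lift (h₁' * α) (h₂' * β)).left s, ?_⟩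
    show _ = δ e'
    rw [← hu', ← Scheme.Hom.comp_apply, ← Over.comp_left, ← key', pointEquiv_symm_left]
    rfl
  have hdisj : π '' Wᶜ ⊆ (π '' W)ᶜ := by
    rintro y ⟨e, he, rfl⟩ ⟨e', he', hee⟩
    exact he (hsat e' e hee he')
  have hclopen : IsClopen (π '' W) := ⟨π.isClosedMap _ hWc, π.isOpenMap _ hWo⟩
  let xs : X := x (IsLocalRing.closedPoint k)
  have hx : xs ∈ π '' W := by
    let e₀ : Over.mk x ⟶ T₁ := Over.homMk t₁ h₁
    let e₀' : Over.mk x ⟶ T₂ := Over.homMk t₂ h₂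
    have h' : e₀ ≫ f₁ = e₀' ≫ f₂ := Over.OverMorphism.ext h
    have hd1 : lift e₀ e₀' ≫ d = 1 := Groth.Agent.SchTorsor.act_free hT.1 (y := e₀' ≫ f₂)
      ((hdpt e₀ e₀').trans (h'.trans (Groth.Agent.SchTorsor.one_act_pt a _).symm))
    have hE : ((pointEquiv q G (Over.mk x)).symm (lift e₀ e₀' ≫ d)) =
        lift (1 : (Over.map q).obj (Over.mk x) ⟶ G₁) (1 : (Over.map q).obj (Over.mk x) ⟶ G₂) ≫ orbitMap φ₁ φ₂ := by
      rw [hd1, map_one, comp_orbitMap, MonObj.one_comp, MonObj.one_comp, inv_one, _root_.mul_one]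
    refine ⟨(lift e₀ e₀').left (IsLocalRing.closedPoint k), ⟨(lift (1 : (Over.map q).obj (Over.mk x) ⟶ G₁)
      (1 : (Over.map q).obj (Over.mk x) ⟶ G₂)).left (IsLocalRing.closedPoint k), ?_⟩, ?_⟩
    · show _ = δ _
      rw [← Scheme.Hom.comp_apply, ← Over.comp_left, ← hE, pointEquiv_symm_left]
      rfl
    · show ((lift e₀ e₀').left ≫ (T₁ ⊗ T₂).hom) _ = xs
      rw [Over.w]
      rfl
  have huniv := hclopen.eq_univ ⟨xs, hx⟩
  refine ⟨fun y => ?_⟩
  obtain ⟨e, he, hey⟩ : y ∈ π '' W := huniv ▸ Set.mem_univ y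
  let Ω := AlgebraicClosure ((T₁ ⊗ T₂).left.residueField e)
  let ω : Spec (CommRingCat.of Ω) ⟶ (T₁ ⊗ T₂).left :=
    Spec.map (CommRingCat.ofHom (algebraMap ((T₁ ⊗ T₂).left.residueField e) Ω)) ≫
      (T₁ ⊗ T₂).left.fromSpecResidueField e
  let s : Spec (CommRingCat.of Ω) := IsLocalRing.closedPoint Ω
  have hω : ω s = e := by
    rw [Scheme.Hom.comp_apply, Scheme.fromSpecResidueField_apply]
  let pt : Spec (CommRingCat.of Ω) ⟶ X := ω ≫ π
  let u : Over.mk pt ⟶ T₁ ⊗ T₂ := Over.homMk ω rfl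
  obtain ⟨α, β, hαβ⟩ := hgeom pt (u ≫ fst T₁ T₂) (u ≫ snd T₁ T₂) s (by
    rw [lift_comp_fst_snd]; show ω s ∈ W; rw [hω]; exact he)
  let p₁ := lift (pointEquiv q G₁ _ α⁻¹) (u ≫ fst T₁ T₂) ≫ a₁.act
  let p₂ := lift (pointEquiv q G₂ _ β⁻¹) (u ≫ snd T₁ T₂) ≫ a₂.act
  have hp : p₁ ≫ f₁ = p₂ ≫ f₂ := by
    rw [equivariant_pt q hf₁, equivariant_pt q hf₂, pointEquiv_map, pointEquiv_map,
      ← hdpt (u ≫ fst T₁ T₂) (u ≫ snd T₁ T₂), ← Groth.Agent.SchTorsor.act_assoc,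
      ← MulEquiv.apply_symm_apply (pointEquiv q G (Over.mk pt)) (lift (u ≫ fst T₁ T₂) (u ≫ snd T₁ T₂) ≫ d),
      hαβ, ← map_mul, GrpObj.inv_comp, GrpObj.inv_comp, inv_mul_cancel_left]
  refine ⟨(Limits.pullback.lift p₁ p₂ hp).left s, ?_⟩
  show ((Limits.pullback.lift p₁ p₂ hp).left ≫ (pullback f₁ f₂).hom) s = y
  rw [Over.w]
  show (ω ≫ π) s = y
  rw [Scheme.Hom.comp_apply, hω, hey]

end Groth.Agent.TorsNorm28
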