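import Groth.Agent.S6266
import Groth.Agent.H23.QCCrit
import Mathlib.AlgebraicGeometry.Morphisms.Finite
import Mathlib.AlgebraicGeometry.Morphisms.FinitePresentation
import Mathlib.AlgebraicGeometry.Morphisms.Flat
import Mathlib.LinearAlgebra.Dimension.Constructions
import Mathlib.RingTheory.Finiteness.ModuleFinitePresentation

/-!
Finite morphisms to reduced schemes with isomorphic geometric fibres are flat.
-/

universe u

open CategoryTheory CategoryTheory.Limits AlgebraicGeometry TensorProduct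

set_option linter.style.haveILetI false

namespace Groth.Agent.TorsNorm28

/-- Affine form: all geometric fibres are the same finite algebra over a field. -/
theorem flat_lfp_specMap_of_fibres (k : Type u) [Field k] (A B C : Type u) [CommRing A] [IsReduced A] [CommRing B]
    [Algebra A B] [Module.Finite A B] [CommRing C] [Algebra k C] [Algebra k A]
    (h : ∀ (Ω : Type u) [Field Ω] [IsAlgClosed Ω] [Algebra A Ω] [Algebra k Ω] [IsScalarTower k A Ω],
      Nonempty ((Ω ⊗[A] B) ≃ₐ[Ω] (Ω ⊗[k] C))) :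
    Flat (Spec.map (CommRingCat.ofHom (algebraMap A B))) ∧
      LocallyOfFinitePresentation (Spec.map (CommRingCat.ofHom (algebraMap A B))) := by
  have hrank : ∀ p : PrimeSpectrum A,
      Module.finrank p.asIdeal.ResidueField (p.asIdeal.ResidueField ⊗[A] B) = Module.finrank k C := fun p => by
    let κ := p.asIdeal.ResidueField
    let Ω := AlgebraicClosure κ
    obtain ⟨e⟩ := h Ω
    have h1 : Module.finrank κ (κ ⊗[A] B) = Module.finrank Ω (Ω ⊗[A] B) := by
      rw [← Module.finrank_baseChange (R := Ω) (S := κ) (M' := κ ⊗[A] B)]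
      exact (AlgebraTensorModule.cancelBaseChange A κ Ω Ω B).finrank_eq
    rw [h1, e.toLinearEquiv.finrank_eq, Module.finrank_baseChange]
  obtain ⟨-, hproj⟩ := (Groth.Agent.S6266.result A B).2 ⟨inferInstance, by
    simp only [hrank]; exact IsLocallyConstant.const _⟩
  haveI : Module.FinitePresentation A B := Module.finitePresentation_of_projective A B
  haveI : Algebra.FinitePresentation A B := inferInstance
  refine ⟨Flat.SpecMap_iff.2 ?_, (HasRingHomProperty.Spec_iff (P := @LocallyOfFinitePresentation)).2 ?_⟩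
  · rw [CommRingCat.hom_ofHom, RingHom.flat_algebraMap_iff]; infer_instance
  · rw [CommRingCat.hom_ofHom, RingHom.finitePresentation_algebraMap]; infer_instance

/-- A finite morphism to a reduced scheme over a field whose geometric fibres are all isomorphic to
the base changes of one finite scheme is flat and locally of finite presentation. -/
theorem flat_lfp_of_fibres {k : Type u} [Field k] {X F P : Scheme.{u}} [AlgebraicGeometry.IsReduced X]
    (q : X ⟶ Spec (CommRingCat.of k)) (g : F ⟶ X) [IsFinite g] (p : P ⟶ Spec (CommRingCat.of k)) [IsFinite p]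
    (h : ∀ (Ω : Type u) [Field Ω] [IsAlgClosed Ω] (pt : Spec (CommRingCat.of Ω) ⟶ X),
      ∃ e : pullback g pt ≅ pullback p (pt ≫ q), e.hom ≫ pullback.snd _ _ = pullback.snd _ _) :
    Flat g ∧ LocallyOfFinitePresentation g := by
  suffices hU : ∀ U : X.affineOpens, Flat (g ∣_ U.1) ∧ LocallyOfFinitePresentation (g ∣_ U.1) from
    ⟨(IsZariskiLocalAtTarget.iff_of_iSup_eq_top (P := @Flat) _ (iSup_affineOpens_eq_top X)).2 fun U => (hU U).1,
      (IsZariskiLocalAtTarget.iff_of_iSup_eq_top (P := @LocallyOfFinitePresentation) _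
        (iSup_affineOpens_eq_top X)).2 fun U => (hU U).2⟩
  rintro ⟨U, hU⟩
  haveI : IsAffine U.toScheme := hU
  haveI : IsAffine (g ⁻¹ᵁ U).toScheme := hU.preimage g
  haveI : IsAffine P := isAffine_of_isAffineHom p
  let S₀ := U.toScheme
  let F₀ := (g ⁻¹ᵁ U).toScheme
  let g₀ : F₀ ⟶ S₀ := g ∣_ U
  haveI : IsFinite g₀ := inferInstance
  obtain ⟨φ, hφ⟩ := Spec.map_surjective (F₀.isoSpec.inv ≫ g₀ ≫ S₀.isoSpec.hom)
  obtain ⟨ψ, hψ⟩ := Spec.map_surjective (S₀.isoSpec.inv ≫ U.ι ≫ q)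
  obtain ⟨χ, hχ⟩ := Spec.map_surjective (P.isoSpec.inv ≫ p)
  letI : Algebra Γ(S₀, ⊤) Γ(F₀, ⊤) := φ.hom.toAlgebra
  letI : Algebra k Γ(S₀, ⊤) := ψ.hom.toAlgebra
  letI : Algebra k Γ(P, ⊤) := χ.hom.toAlgebra
  haveI : Module.Finite Γ(S₀, ⊤) Γ(F₀, ⊤) := by
    have hf : IsFinite (Spec.map φ) := by rw [hφ]; infer_instance
    exact (IsFinite.SpecMap_iff _).1 hf
  haveI : _root_.IsReduced Γ(S₀, ⊤) := inferInstance
  have key := flat_lfp_specMap_of_fibres k Γ(S₀, ⊤) Γ(F₀, ⊤) Γ(P, ⊤) ?_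
  · have hg : g ∣_ U = F₀.isoSpec.hom ≫ Spec.map φ ≫ S₀.isoSpec.inv := by
      rw [hφ]; simp [g₀]
    obtain ⟨k1, k2⟩ := key
    change Flat (Spec.map φ) at k1
    change LocallyOfFinitePresentation (Spec.map φ) at k2
    rw [hg]
    exact ⟨inferInstance, inferInstance⟩
  · intro Ω _ _ _ _ _
    let v : Spec (CommRingCat.of Ω) ⟶ Spec Γ(S₀, ⊤) := Spec.map (CommRingCat.ofHom (algebraMap Γ(S₀, ⊤) Ω))
    let pt : Spec (CommRingCat.of Ω) ⟶ X := v ≫ S₀.isoSpec.inv ≫ U.ι
    obtain ⟨e, he⟩ := h Ω pt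
    let w : Spec (CommRingCat.of Ω) ⟶ Spec (CommRingCat.of k) := Spec.map (CommRingCat.ofHom (algebraMap k Ω))
    have hw : pt ≫ q = w := by
      rw [show w = v ≫ Spec.map ψ by
        rw [← Spec.map_comp]
        exact congrArg Spec.map (CommRingCat.hom_ext (IsScalarTower.algebraMap_eq k Γ(S₀, ⊤) Ω)), hψ]
      simp [pt]
    have hI : IsPullback (pullback.fst v (Spec.map φ)) (pullback.snd v (Spec.map φ) ≫ F₀.isoSpec.inv ≫ (g ⁻¹ᵁ U).ι)
        pt g := by
      refine IsPullback.paste_vert (IsPullback.of_hasPullback v (Spec.map φ)) ?_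
      refine IsPullback.of_iso (isPullback_morphismRestrict g U) F₀.isoSpec S₀.isoSpec (Iso.refl _) (Iso.refl _)
        ?_ ?_ ?_ ?_
      · rw [hφ, Iso.hom_inv_id_assoc]
      · exact (Category.comp_id _).trans (Iso.hom_inv_id_assoc _ _).symm
      · exact (Category.comp_id _).trans (Iso.hom_inv_id_assoc _ _).symm
      · exact (Category.comp_id _).trans (Category.id_comp _).symm
    have hJ : IsPullback (pullback.fst w (Spec.map χ)) (pullback.snd w (Spec.map χ) ≫ P.isoSpec.inv) (pt ≫ q) p := by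
      rw [hw]
      refine IsPullback.of_iso (IsPullback.of_hasPullback w (Spec.map χ)) (Iso.refl _) (Iso.refl _) P.isoSpec.symm
        (Iso.refl _) ?_ ?_ ?_ ?_
      · simp
      · simp
      · simp
      · simp [hχ]
    let i : pullback v (Spec.map φ) ≅ pullback w (Spec.map χ) := hI.flip.isoPullback ≪≫ e ≪≫ hJ.flip.isoPullback.symm
    have hi : i.hom ≫ pullback.fst w (Spec.map χ) = pullback.fst v (Spec.map φ) := by
      simp [i, he]
    let ε : Spec (CommRingCat.of (Ω ⊗[Γ(S₀, ⊤)] Γ(F₀, ⊤))) ≅ Spec (CommRingCat.of (Ω ⊗[k] Γ(P, ⊤))) :=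
      (pullbackSpecIso Γ(S₀, ⊤) Ω Γ(F₀, ⊤)).symm ≪≫ i ≪≫ pullbackSpecIso k Ω Γ(P, ⊤)
    obtain ⟨α, hα⟩ := Spec.map_surjective ε.hom
    obtain ⟨β, hβ⟩ := Spec.map_surjective ε.inv
    have hαβ : α ≫ β = 𝟙 _ := Spec.map_injective (by rw [Spec.map_comp, hα, hβ, Iso.inv_hom_id, Spec.map_id])
    have hβα : β ≫ α = 𝟙 _ := Spec.map_injective (by rw [Spec.map_comp, hα, hβ, Iso.hom_inv_id, Spec.map_id])
    have hΩ : CommRingCat.ofHom Algebra.TensorProduct.includeLeftRingHom ≫ α =
        CommRingCat.ofHom Algebra.TensorProduct.includeLeftRingHom := by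
      apply Spec.map_injective
      rw [Spec.map_comp, hα]
      simp only [ε, Iso.trans_hom, Iso.symm_hom, Category.assoc]
      refine Eq.trans ?_ (pullbackSpecIso_inv_fst Γ(S₀, ⊤) Ω Γ(F₀, ⊤))
      congr 1
      refine Eq.trans ?_ hi
      congr 1
      exact pullbackSpecIso_hom_fst k Ω Γ(P, ⊤)
    let a : (Ω ⊗[k] Γ(P, ⊤)) →ₐ[Ω] (Ω ⊗[Γ(S₀, ⊤)] Γ(F₀, ⊤)) := { α.hom with commutes' := fun r => congr($(hΩ).hom r) }
    haveI : IsIso α := ⟨β, hαβ, hβα⟩
    exact ⟨(AlgEquiv.ofBijective a (ConcreteCategory.bijective_of_isIso α)).symm⟩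

end Groth.Agent.TorsNorm28
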