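import Groth.Agent.TorsNorm28.FibreProd
import Groth.Agent.TorsNorm28.FlatReduced
import Mathlib.AlgebraicGeometry.Sites.Fpqc
import Mathlib.CategoryTheory.Limits.Preserves.Shapes.Pullbacks
import Mathlib.CategoryTheory.Limits.Constructions.Over.Connected

/-!
The torsor structure on fibre products of pointed torsors.
-/

universe u

open CategoryTheory MonoidalCategory CartesianMonoidalCategory MonObj GrpObj AlgebraicGeometry
open CategoryTheory.Limits

set_option linter.style.haveILetI false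

namespace Groth.Agent.TorsNorm28

variable {k : Type u} [Field k] {X : Scheme.{u}} (q : X ⟶ Spec (CommRingCat.of k))
  {G G₁ G₂ P : Over (Spec (CommRingCat.of k))} [GrpObj G] [GrpObj G₁] [GrpObj G₂] [GrpObj P]
  {φ₁ : G₁ ⟶ G} {φ₂ : G₂ ⟶ G} [IsMonHom φ₁] [IsMonHom φ₂]
  {π₁ : P ⟶ G₁} {π₂ : P ⟶ G₂} [IsMonHom π₁] [IsMonHom π₂] {T T₁ T₂ : Over X}
  {a : AlgGrp.Action (Red.bc q G) T} {a₁ : AlgGrp.Action (Red.bc q G₁) T₁} {a₂ : AlgGrp.Action (Red.bc q G₂) T₂}
  {f₁ : T₁ ⟶ T} {f₂ : T₂ ⟶ T}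

theorem exists_fibreAction (hP : IsPullback π₁ π₂ φ₁ φ₂) (ha : NonAbH1.IsPseudoTorsorSch a)
    (ha₁ : NonAbH1.IsPseudoTorsorSch a₁) (ha₂ : NonAbH1.IsPseudoTorsorSch a₂)
    (hf₁ : AlgGrp.Action.IsEquivariant a₁ (a.restrict ((Over.pullback q).map φ₁)) f₁)
    (hf₂ : AlgGrp.Action.IsEquivariant a₂ (a.restrict ((Over.pullback q).map φ₂)) f₂) :
    ∃ c : AlgGrp.Action (Red.bc q P) (pullback f₁ f₂),
      AlgGrp.Action.IsEquivariant c (a₁.restrict ((Over.pullback q).map π₁)) (pullback.fst f₁ f₂) ∧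
      AlgGrp.Action.IsEquivariant c (a₂.restrict ((Over.pullback q).map π₂)) (pullback.snd f₁ f₂) ∧
      NonAbH1.IsPseudoTorsorSch c := by
  let F := pullback f₁ f₂
  let p₁ : F ⟶ T₁ := pullback.fst f₁ f₂
  let p₂ : F ⟶ T₂ := pullback.snd f₁ f₂
  let Φ₁ := (Over.pullback q).map φ₁
  let Φ₂ := (Over.pullback q).map φ₂
  let Pm₁ := (Over.pullback q).map π₁
  let Pm₂ := (Over.pullback q).map π₂
  have hPi : Pm₁ ≫ Φ₁ = Pm₂ ≫ Φ₂ := by
    rw [← Functor.map_comp, ← Functor.map_comp, hP.w]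
  haveI : PreservesLimitsOfShape WalkingCospan (Over.pullback q) :=
    (Over.mapPullbackAdj q).rightAdjoint_preservesLimits.preservesLimitsOfShape
  have hQ : IsPullback Pm₁ Pm₂ Φ₁ Φ₂ := hP.map (Over.pullback q)
  have hpt : ∀ {Z : Over X} (g : Z ⟶ Red.bc q P) (e : Z ⟶ F),
      (lift (g ≫ Pm₁) (e ≫ p₁) ≫ a₁.act) ≫ f₁ = (lift (g ≫ Pm₂) (e ≫ p₂) ≫ a₂.act) ≫ f₂ := by
    intro Z g e
    rw [equivariant_pt q hf₁, equivariant_pt q hf₂, Category.assoc, Category.assoc, hPi, Category.assoc,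
      Category.assoc, pullback.condition]
  let act : Red.bc q P ⊗ F ⟶ F := pullback.lift (lift (fst _ _ ≫ Pm₁) (snd _ _ ≫ p₁) ≫ a₁.act)
    (lift (fst _ _ ≫ Pm₂) (snd _ _ ≫ p₂) ≫ a₂.act) (hpt _ _)
  have hact₁ : ∀ {Z : Over X} (g : Z ⟶ Red.bc q P) (e : Z ⟶ F),
      (lift g e ≫ act) ≫ p₁ = lift (g ≫ Pm₁) (e ≫ p₁) ≫ a₁.act := fun g e => by
    rw [Category.assoc, pullback.lift_fst, comp_lift_assoc, lift_fst_assoc, lift_snd_assoc]
  have hact₂ : ∀ {Z : Over X} (g : Z ⟶ Red.bc q P) (e : Z ⟶ F),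
      (lift g e ≫ act) ≫ p₂ = lift (g ≫ Pm₂) (e ≫ p₂) ≫ a₂.act := fun g e => by
    rw [Category.assoc, pullback.lift_snd, comp_lift_assoc, lift_fst_assoc, lift_snd_assoc]
  let c : AlgGrp.Action (Red.bc q P) F :=
    { act := act
      one_act := by
        apply AlgGrp.Action.hom_ext_lift₂
        intro Z u e
        have hu : u ≫ η[Red.bc q P] = 1 := by rw [Hom.one_def, toUnit_unique (toUnit Z) u]
        rw [lift_whiskerRight_assoc, hu, leftUnitor_hom, lift_snd]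
        apply pullback.hom_ext
        · rw [hact₁, MonObj.one_comp, Groth.Agent.SchTorsor.one_act_pt]
        · rw [hact₂, MonObj.one_comp, Groth.Agent.SchTorsor.one_act_pt]
      mul_act := by
        apply AlgGrp.Action.hom_ext_lift₃
        intro Z g g' e
        rw [lift_whiskerRight_assoc, ← Hom.mul_def, lift_lift_associator_hom_assoc, lift_whiskerLeft_assoc]
        apply pullback.hom_ext
        · rw [hact₁, hact₁, hact₁, MonObj.mul_comp, Groth.Agent.SchTorsor.act_assoc]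
        · rw [hact₂, hact₂, hact₂, MonObj.mul_comp, Groth.Agent.SchTorsor.act_assoc] }
  refine ⟨c, ?_, ?_, ?_⟩
  · show c.act ≫ p₁ = (_ ◁ p₁) ≫ _
    rw [show (c.act ≫ p₁) = (lift (fst _ _) (snd _ _) ≫ act) ≫ p₁ by rw [lift_fst_snd, Category.id_comp],
      hact₁, AlgGrp.Action.restrict_act, ← Category.assoc]
    congr 1
    apply CartesianMonoidalCategory.hom_ext <;> simp [Pm₁]
  · show c.act ≫ p₂ = (_ ◁ p₂) ≫ _
    rw [show (c.act ≫ p₂) = (lift (fst _ _) (snd _ _) ≫ act) ≫ p₂ by rw [lift_fst_snd, Category.id_comp],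
      hact₂, AlgGrp.Action.restrict_act, ← Category.assoc]
    congr 1
    apply CartesianMonoidalCategory.hom_ext <;> simp [Pm₂]
  · have hdiv : ∀ {Z : Over X} (e e' : Z ⟶ F), ∃ g : Z ⟶ Red.bc q P, lift g e' ≫ act = e := by
      intro Z e e'
      obtain ⟨g₁, hg₁⟩ := Groth.Agent.SchTorsor.exists_div ha₁ (e ≫ p₁) (e' ≫ p₁)
      obtain ⟨g₂, hg₂⟩ := Groth.Agent.SchTorsor.exists_div ha₂ (e ≫ p₂) (e' ≫ p₂)
      have hg : g₁ ≫ Φ₁ = g₂ ≫ Φ₂ := by
        have hc : (e ≫ p₁) ≫ f₁ = (e ≫ p₂) ≫ f₂ := by simp only [Category.assoc, p₁, p₂, pullback.condition]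
        have hc' : (e' ≫ p₁) ≫ f₁ = (e' ≫ p₂) ≫ f₂ := by simp only [Category.assoc, p₁, p₂, pullback.condition]
        refine Groth.Agent.SchTorsor.act_free ha (y := (e' ≫ p₂) ≫ f₂) ?_
        rw [← equivariant_pt q hf₂, hg₂, ← hc', ← equivariant_pt q hf₁, hg₁, hc]
      refine ⟨hQ.lift g₁ g₂ hg, pullback.hom_ext ?_ ?_⟩
      · rw [hact₁, hQ.lift_fst, hg₁]
      · rw [hact₂, hQ.lift_snd, hg₂]
    have hfree : ∀ {Z : Over X} (g h : Z ⟶ Red.bc q P) (e : Z ⟶ F), lift g e ≫ act = lift h e ≫ act → g = h := by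
      intro Z g h e he
      refine hQ.hom_ext (Groth.Agent.SchTorsor.act_free ha₁ (y := e ≫ p₁) ?_)
        (Groth.Agent.SchTorsor.act_free ha₂ (y := e ≫ p₂) ?_)
      · rw [← hact₁, ← hact₁, he]
      · rw [← hact₂, ← hact₂, he]
    obtain ⟨d, hd⟩ := hdiv (fst F F) (snd F F)
    refine ⟨lift d (snd F F), ?_, ?_⟩
    · apply CartesianMonoidalCategory.hom_ext
      · rw [Category.assoc, lift_fst, Category.id_comp]
        refine hfree _ _ (snd _ F) ?_
        rw [lift_fst_snd, Category.id_comp]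
        have h1 := congrArg (lift c.act (snd _ F) ≫ ·) hd
        simp only [comp_lift_assoc, lift_fst, lift_snd] at h1
        exact h1
      · rw [Category.assoc, lift_snd, Category.id_comp]; exact lift_snd _ _
    · apply CartesianMonoidalCategory.hom_ext
      · rw [Category.assoc, lift_fst, Category.id_comp]
        exact hd
      · rw [Category.assoc, lift_snd, Category.id_comp]; exact lift_snd _ _

variable [IsFinite G.hom] [IsFinite G₁.hom] [IsFinite G₂.hom]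

theorem exists_fibreTorsor [AlgebraicGeometry.IsReduced X] (hP : IsPullback π₁ π₂ φ₁ φ₂)
    (hT : NonAbH1.IsTorsorFor Scheme.fppfPrecoverage a)
    (hT₁ : NonAbH1.IsTorsorFor Scheme.fppfPrecoverage a₁) (hT₂ : NonAbH1.IsTorsorFor Scheme.fppfPrecoverage a₂)
    (hf₁ : AlgGrp.Action.IsEquivariant a₁ (a.restrict ((Over.pullback q).map φ₁)) f₁)
    (hf₂ : AlgGrp.Action.IsEquivariant a₂ (a.restrict ((Over.pullback q).map φ₂)) f₂)
    (hsurj : Surjective (pullback f₁ f₂).hom) :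
    ∃ c : AlgGrp.Action (Red.bc q P) (pullback f₁ f₂),
      AlgGrp.Action.IsEquivariant c (a₁.restrict ((Over.pullback q).map π₁)) (pullback.fst f₁ f₂) ∧
      AlgGrp.Action.IsEquivariant c (a₂.restrict ((Over.pullback q).map π₂)) (pullback.snd f₁ f₂) ∧
      NonAbH1.IsTorsorFor Scheme.fppfPrecoverage c := by
  obtain ⟨c, hc₁, hc₂, hc⟩ := exists_fibreAction q hP hT.1 hT₁.1 hT₂.1 hf₁ hf₂
  refine ⟨c, hc₁, hc₂, hc, ?_⟩
  have hfin : ∀ (H : Over (Spec (CommRingCat.of k))) [GrpObj H] [IsFinite H.hom] (Y : Over X)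
      (b : AlgGrp.Action (Red.bc q H) Y), NonAbH1.IsTorsorFor Scheme.fppfPrecoverage b → IsFinite Y.hom := by
    intro H _ _ Y b hb
    haveI : IsFinite (Red.bc q H).hom := inferInstanceAs (IsFinite (Limits.pullback.snd H.hom q))
    exact isFinite_hom (toFpqc hb)
  haveI := hfin G T a hT
  haveI := hfin G₁ T₁ a₁ hT₁
  haveI := hfin G₂ T₂ a₂ hT₂
  have hcomp : ∀ {A B : Over X} (f : A ⟶ B) [IsFinite A.hom] [IsFinite B.hom], IsFinite f.left := by
    intro A B f _ _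
    refine MorphismProperty.of_postcomp (W' := @IsSeparated) @IsFinite f.left B.hom inferInstance ?_
    rw [Over.w f]; infer_instance
  have hbc : ∀ {S : Scheme.{u}} {A₁ A₂ B R : Over S} {u₁ : R ⟶ A₁} {u₂ : R ⟶ A₂} {v₁ : A₁ ⟶ B} {v₂ : A₂ ⟶ B}
      (_ : IsPullback u₁ u₂ v₁ v₂), IsFinite A₁.hom → IsFinite v₂.left → IsFinite R.hom := by
    intro S A₁ A₂ B R u₁ u₂ v₁ v₂ h h1 h2
    haveI := h1
    haveI : IsFinite u₁.left :=
      MorphismProperty.of_isPullback (h.map (Over.forget S)).flip h2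
    rw [← Over.w u₁]
    infer_instance
  haveI : IsFinite (pullback f₁ f₂).hom :=
    hbc (IsPullback.of_hasPullback f₁ f₂) inferInstance (hcomp f₂)
  haveI : IsFinite P.hom := by
    refine hbc hP inferInstance ?_
    refine MorphismProperty.of_postcomp (W' := @IsSeparated) @IsFinite φ₂.left G.hom inferInstance ?_
    rw [Over.w φ₂]; infer_instance
  have hfib : ∀ (Ω : Type u) [Field Ω] [IsAlgClosed Ω] (pt : Spec (CommRingCat.of Ω) ⟶ X),
      ∃ e : Limits.pullback (pullback f₁ f₂).hom pt ≅ Limits.pullback P.hom (pt ≫ q),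
        e.hom ≫ Limits.pullback.snd _ _ = Limits.pullback.snd _ _ := by
    intro Ω _ _ pt
    obtain ⟨x, hx⟩ := Groth.Agent.H23.QCCrit.exists_geomPoint_lift (pullback f₁ f₂).hom Ω pt
    let s : Over.mk pt ⟶ pullback f₁ f₂ := Over.homMk x hx
    let θ := lift ((Red.bc q P ◁ s) ≫ c.act) (snd (Red.bc q P) (Over.mk pt))
    haveI : IsIso θ := Groth.Agent.SchTorsor.isIso_of_section hc s
    haveI : IsIso θ.left := (Over.forget X).map_isIso θ
    let θ' : Limits.pullback (Red.bc q P).hom pt ⟶ Limits.pullback (pullback f₁ f₂).hom pt := θ.left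
    haveI : IsIso θ' := ‹IsIso θ.left›
    have hθ : θ' ≫ Limits.pullback.snd _ pt = Limits.pullback.snd (Red.bc q P).hom pt :=
      congrArg CommaMorphism.left (lift_snd _ _ : θ ≫ snd _ (Over.mk pt) = _)
    refine ⟨(asIso θ').symm ≪≫ pullbackLeftPullbackSndIso P.hom q pt, ?_⟩
    rw [Iso.trans_hom, Category.assoc, pullbackLeftPullbackSndIso_hom_snd, Iso.symm_hom, asIso_inv,
      IsIso.inv_comp_eq, hθ]
    rfl
  obtain ⟨_, _⟩ := flat_lfp_of_fibres q (pullback f₁ f₂).hom P.hom hfib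
  haveI := hsurj
  refine ⟨Presieve.singleton (pullback f₁ f₂).hom, Scheme.Hom.singleton_mem_fppfPrecoverage _, ?_⟩
  rintro _ _ ⟨⟩
  exact ⟨𝟙 _, Category.id_comp _⟩

end Groth.Agent.TorsNorm28
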