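import Groth.Agent.TorsNorm28.GlueAlg
import Groth.Agent.TorsNorm28.FromBC
import Groth.Agent.TorsNorm28.FinitePoint
import Groth.Agent.H23.QCCrit
import Groth.Agent.S9821
import Groth.Agent.SchTorsor.NormalExt

/-!
Torsors under finite flat groups over normal integral schemes are determined at the generic point.
-/

universe u

open CategoryTheory MonoidalCategory CartesianMonoidalCategory MonObj GrpObj AlgebraicGeometry
open CategoryTheory.Limits

set_option linter.style.haveILetI false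

namespace Groth.Agent.TorsNorm28

variable {X : Scheme.{u}}

/-- Restriction of an object over `X` to an open. -/
noncomputable def overRestrict (A : Over X) (V : X.Opens) : Over X := Over.mk ((A.hom ⁻¹ᵁ V).ι ≫ A.hom)

noncomputable def overRestrictι (A : Over X) (V : X.Opens) : overRestrict A V ⟶ A :=
  Over.homMk (A.hom ⁻¹ᵁ V).ι rfl

theorem isPullback_of_mono {A B V Z : Scheme.{u}} {f : A ⟶ V} {g : B ⟶ V} {j : V ⟶ Z} [Mono j] {a : A ⟶ Z}
    {b : B ⟶ Z} (ha : f ≫ j = a) (hb : g ≫ j = b) :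
    IsPullback (pullback.fst a b) (pullback.snd a b) f g := by
  have hc : pullback.fst a b ≫ f = pullback.snd a b ≫ g := by
    rw [← cancel_mono j, Category.assoc, Category.assoc, ha, hb, pullback.condition]
  refine IsPullback.of_isLimit' ⟨hc⟩ (PullbackCone.IsLimit.mk _ (fun s => pullback.lift s.fst s.snd
    (by rw [← ha, ← hb, ← Category.assoc, ← Category.assoc, s.condition])) (fun s => pullback.lift_fst _ _ _)
    (fun s => pullback.lift_snd _ _ _) fun s m h1 h2 => pullback.hom_ext (by rw [pullback.lift_fst]; exact h1)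
      (by rw [pullback.lift_snd]; exact h2))

variable [IsIntegral X]

theorem range_fromSpecStalk_generic_subset {V : X.Opens} (hV : genericPoint X ∈ V) :
    Set.range (X.fromSpecStalk (genericPoint X)) ⊆ (V : Set X) := by
  rw [Scheme.range_fromSpecStalk]
  intro y hy
  obtain rfl : y = genericPoint X := (hy.antisymm (genericPoint_specializes y)).eq
  exact hV

/-- The generic point as an object over `X`. -/
noncomputable abbrev genObj (X : Scheme.{u}) [IsIntegral X] : Over X :=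
  Over.mk (X.fromSpecStalk (genericPoint X))

/-- Morphisms from flat schemes over an affine open into separated schemes are determined at the
generic point. -/
theorem ext_generic_affine {A Q : Over X} [IsSeparated Q.hom] {V : X.Opens} (hV : IsAffineOpen V)
    (hηV : genericPoint X ∈ V) (h : A.left ⟶ V.toScheme) (hfl : Flat h) (hh : h ≫ V.ι = A.hom) (f₁ f₂ : A ⟶ Q)
    (e : fst A (genObj X) ≫ f₁ = fst A (genObj X) ≫ f₂) : f₁ = f₂ := by
  haveI : IsAffine V.toScheme := hV
  let ιV : Spec X.functionField ⟶ V.toScheme := IsOpenImmersion.lift V.ι (X.fromSpecStalk (genericPoint X))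
    (by rw [Scheme.Opens.range_ι]; exact range_fromSpecStalk_generic_subset hηV)
  have hι : ιV ≫ V.ι = X.fromSpecStalk (genericPoint X) := IsOpenImmersion.lift_fac _ _ _
  haveI : IsDominant ιV := by
    refine ⟨dense_iff_inter_open.2 fun O hO ⟨w, hw⟩ => ?_⟩
    obtain ⟨q, hq, hqη⟩ := Groth.Agent.SchTorsor.genericPoint_mem ⟨V.ι '' O, V.ι.isOpenEmbedding.isOpenMap O hO⟩
      (x := V.ι w) ⟨w, hw, rfl⟩
    obtain ⟨r, hr⟩ := Scheme.range_fromSpecStalk.ge (specializes_rfl : genericPoint X ⤳ genericPoint X)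
    refine ⟨q, hq, r, V.ι.isOpenEmbedding.injective ?_⟩
    exact ((Scheme.Hom.comp_apply ιV V.ι r).symm.trans ((congr($(hι) r)).trans hr)).trans hqη.symm
  haveI : IsSchemeTheoreticallyDominant ιV := IsSchemeTheoreticallyDominant.of_isDominant _
  haveI : IsSchemeTheoreticallyDominant (fst A (genObj X)).left := by
    show IsSchemeTheoreticallyDominant (pullback.fst A.hom (X.fromSpecStalk (genericPoint X)))
    exact IsSchemeTheoreticallyDominant.of_isPullback (isPullback_of_mono hh hι).flip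
  exact sd_ext_over (fst A (genObj X)) f₁ f₂ e

/-- Morphisms from flat schemes over `X` into separated schemes are determined at the generic point. -/
theorem ext_generic {A Q : Over X} [Flat A.hom] [IsSeparated Q.hom] (f₁ f₂ : A ⟶ Q)
    (e : fst A (genObj X) ≫ f₁ = fst A (genObj X) ≫ f₂) : f₁ = f₂ := by
  apply Over.OverMorphism.ext
  choose V hV hxV _ using fun a : A.left => exists_isAffineOpen_mem_and_subset (x := A.hom a) (U := ⊤) trivial
  let 𝒰 : A.left.OpenCover := A.left.openCoverOfIsOpenCover (fun a => A.hom ⁻¹ᵁ V a)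
    (TopologicalSpace.IsOpenCover.mk (top_unique fun a _ => TopologicalSpace.Opens.mem_iSup.2 ⟨a, hxV a⟩))
  refine 𝒰.hom_ext _ _ fun a => ?_
  let r := overRestrictι A (V a)
  have h := ext_generic_affine (A := overRestrict A (V a)) (hV a)
    (Groth.Agent.SchTorsor.genericPoint_mem _ (hxV a)) (A.hom ∣_ V a) (IsZariskiLocalAtTarget.restrict ‹Flat A.hom› (V a)) (morphismRestrict_ι A.hom (V a))
    (r ≫ f₁) (r ≫ f₂) (by
      have h1 : fst (overRestrict A (V a)) (genObj X) ≫ r = (r ▷ genObj X) ≫ fst A (genObj X) := by simp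
      rw [← Category.assoc, ← Category.assoc, h1, Category.assoc, Category.assoc, e])
  exact congrArg CommaMorphism.left h

section Existence

variable (hX : Pi1.IsNormalScheme X) {G : Over X} [GrpObj G] [IsFinite G.hom] [Flat G.hom]
  {P Q : Over X} {a : AlgGrp.Action G P} {a' : AlgGrp.Action G Q}

include hX in
theorem exists_extension_affine (ha : NonAbH1.IsPseudoTorsorSch a) [IsFinite P.hom] [Flat P.hom] [Surjective P.hom]
    [IsFinite Q.hom] (φ : P ⊗ genObj X ⟶ Q)
    (hφ : ∀ (Z : Over X) (h : Z ⟶ G) (x : Z ⟶ P) (e : Z ⟶ genObj X),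
      lift (lift h x ≫ a.act) e ≫ φ = lift h (lift x e ≫ φ) ≫ a'.act)
    {U : X.Opens} (hU : IsAffineOpen U) (hη : genericPoint X ∈ U) :
    ∃ Ψ : overRestrict P U ⟶ Q,
      fst (overRestrict P U) (genObj X) ≫ Ψ = (overRestrictι P U ▷ genObj X) ≫ φ := by
  haveI : Nonempty U := ⟨⟨_, hη⟩⟩
  let R := Γ(X, U)
  let K := X.functionField
  haveI : IsDomain R := IsIntegral.component_integral U
  haveI : IsIntegrallyClosed R := (S9821.result X).1 hX U hU
  haveI : IsFractionRing R K := functionField_isFractionRing_of_isAffineOpen X U hU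
  let L := AlgebraicClosure K
  let jU : Spec R ⟶ X := hU.fromSpec
  have hjK : Spec.map (CommRingCat.ofHom (algebraMap R K)) ≫ jU = X.fromSpecStalk (genericPoint X) := by
    rw [← hU.fromSpecStalk_eq_fromSpecStalk hη]
    rfl
  let T : Over X := Over.mk (icBase R L ≫ jU)
  let W : Over X := Over.mk (Spec.map (CommRingCat.ofHom (algebraMap R L)) ≫ jU)
  let jT : W ⟶ T := Over.homMk (icPt R L) (by
    show icPt R L ≫ icBase R L ≫ jU = _
    rw [← Category.assoc, icPt_icBase]; rfl)
  let jE : W ⟶ genObj X := Over.homMk (Spec.map (CommRingCat.ofHom (algebraMap K L))) (by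
    show Spec.map (CommRingCat.ofHom (algebraMap K L)) ≫ X.fromSpecStalk (genericPoint X) = _
    rw [← hjK, ← Spec.map_comp_assoc]
    rfl)
  obtain ⟨p₀', hp₀'⟩ := Groth.Agent.H23.QCCrit.exists_geomPoint_lift P.hom L W.hom
  let p₀ : W ⟶ P := Over.homMk p₀' hp₀'
  have hlift : ∀ (Y : Over X) [IsFinite Y.hom] (y₀ : W ⟶ Y), ∃ y : T ⟶ Y, jT ≫ y = y₀ := by
    intro Y _ y₀
    obtain ⟨q, hq, hq'⟩ := exists_lift_integral R L (Limits.pullback.snd Y.hom jU)
      (Limits.pullback.lift y₀.left (Spec.map (CommRingCat.ofHom (algebraMap R L))) (Over.w y₀))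
      (Limits.pullback.lift_snd _ _ _)
    refine ⟨Over.homMk (q ≫ Limits.pullback.fst Y.hom jU) ?_, Over.OverMorphism.ext ?_⟩
    · show (q ≫ Limits.pullback.fst Y.hom jU) ≫ Y.hom = icBase R L ≫ jU
      rw [Category.assoc, Limits.pullback.condition, reassoc_of% hq]
    · show icPt R L ≫ q ≫ Limits.pullback.fst Y.hom jU = y₀.left
      rw [← Category.assoc]
      exact (congrArg (· ≫ Limits.pullback.fst Y.hom jU) hq').trans (Limits.pullback.lift_fst _ _ _)
  obtain ⟨p, hp⟩ := hlift P p₀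
  obtain ⟨q, hq⟩ := hlift Q (lift p₀ jE ≫ φ)
  let w : W ⟶ T ⊗ genObj X := lift jT jE
  haveI : IsSchemeTheoreticallyDominant w.left := by
    let c : (T ⊗ genObj X).left ≅ Limits.pullback (icBase R L) (Spec.map (CommRingCat.ofHom (algebraMap R K))) :=
      (isPullback_of_mono (f := icBase R L) (j := jU) (a := icBase R L ≫ jU) rfl hjK).isoPullback
    haveI : IsSchemeTheoreticallyDominant (w.left ≫ c.hom) :=
      dominant_generic_integralClosure R L K _
        (by
          rw [Category.assoc]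
          exact (congrArg (w.left ≫ ·) (IsPullback.isoPullback_hom_fst _)).trans
            (congrArg CommaMorphism.left (lift_fst jT jE)))
        (by
          rw [Category.assoc]
          exact (congrArg (w.left ≫ ·) (IsPullback.isoPullback_hom_snd _)).trans
            (congrArg CommaMorphism.left (lift_snd jT jE)))
    rw [show w.left = (w.left ≫ c.hom) ≫ c.inv by simp]
    infer_instance
  obtain ⟨Φ, hΦ⟩ := exists_extension_aux ha φ hφ p q w (by
    rw [lift_fst_assoc, comp_lift_assoc, lift_fst_assoc, lift_snd, hq, hp])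
  let r := overRestrictι P U
  let A := (P.hom ⁻¹ᵁ U).toScheme
  haveI : IsAffine A := hU.preimage P.hom
  haveI : IsAffine U.toScheme := hU
  let t : A ⟶ Spec R := (P.hom ∣_ U) ≫ hU.isoSpec.hom
  have ht : t ≫ jU = (overRestrict P U).hom := by
    show ((P.hom ∣_ U) ≫ hU.isoSpec.hom) ≫ hU.fromSpec = (P.hom ⁻¹ᵁ U).ι ≫ P.hom
    rw [Category.assoc, hU.isoSpec_hom_fromSpec, morphismRestrict_ι]
  let B := (Q.hom ⁻¹ᵁ U).toScheme
  haveI : IsAffine B := hU.preimage Q.hom
  have hlift2 : ∀ {Z : Scheme.{u}} (z : Z ⟶ Q.left) (s : Z ⟶ Spec R), z ≫ Q.hom = s ≫ jU →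
      Set.range z ⊆ Set.range (Q.hom ⁻¹ᵁ U).ι := by
    intro Z z s hzs
    rw [Scheme.Opens.range_ι]
    rintro _ ⟨w', rfl⟩
    show Q.hom (z w') ∈ U
    rw [← Scheme.Hom.comp_apply, hzs, Scheme.Hom.comp_apply]
    exact hU.range_fromSpec.le ⟨_, rfl⟩
  let ZE : Over X := Over.mk (Limits.pullback.fst t (Spec.map (CommRingCat.ofHom (algebraMap R K))) ≫ t ≫ jU)
  let zEx : ZE ⟶ P := Over.homMk (Limits.pullback.fst t _ ≫ (P.hom ⁻¹ᵁ U).ι) (by
    show (_ ≫ (P.hom ⁻¹ᵁ U).ι) ≫ P.hom = _ ≫ t ≫ jU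
    rw [Category.assoc, ht]; rfl)
  let zEe : ZE ⟶ genObj X := Over.homMk (Limits.pullback.snd t _) (by
    show Limits.pullback.snd t _ ≫ X.fromSpecStalk (genericPoint X) = _ ≫ t ≫ jU
    rw [← hjK, Limits.pullback.condition_assoc])
  let ZC : Over X := Over.mk (Limits.pullback.fst t (icBase R L) ≫ t ≫ jU)
  let zCx : ZC ⟶ P := Over.homMk (Limits.pullback.fst t _ ≫ (P.hom ⁻¹ᵁ U).ι) (by
    show (_ ≫ (P.hom ⁻¹ᵁ U).ι) ≫ P.hom = _ ≫ t ≫ jU
    rw [Category.assoc, ht]; rfl)
  let zCt : ZC ⟶ T := Over.homMk (Limits.pullback.snd t _) (by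
    show Limits.pullback.snd t _ ≫ icBase R L ≫ jU = _ ≫ t ≫ jU
    rw [Limits.pullback.condition_assoc])
  let φ' := IsOpenImmersion.lift (Q.hom ⁻¹ᵁ U).ι (lift zEx zEe ≫ φ).left
    (hlift2 _ (Limits.pullback.fst t _ ≫ t) ((Over.w _).trans (Category.assoc _ _ _).symm))
  let Φ' := IsOpenImmersion.lift (Q.hom ⁻¹ᵁ U).ι (lift zCx zCt ≫ Φ).left
    (hlift2 _ (Limits.pullback.fst t _ ≫ t) ((Over.w _).trans (Category.assoc _ _ _).symm))
  obtain ⟨Ψ', hΨ'⟩ := exists_glue_affine R K L t φ' Φ' fun {Z} x e r h1 h2 => by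
    rw [← cancel_mono (Q.hom ⁻¹ᵁ U).ι, Category.assoc, Category.assoc, IsOpenImmersion.lift_fac,
      IsOpenImmersion.lift_fac]
    let Z' : Over X := Over.mk (x ≫ t ≫ jU)
    let uE : Z' ⟶ ZE := Over.homMk (Limits.pullback.lift x e h1) (by
      show Limits.pullback.lift x e h1 ≫ Limits.pullback.fst t _ ≫ t ≫ jU = x ≫ t ≫ jU
      rw [Limits.pullback.lift_fst_assoc])
    let uC : Z' ⟶ ZC := Over.homMk (Limits.pullback.lift x r h2) (by
      show Limits.pullback.lift x r h2 ≫ Limits.pullback.fst t _ ≫ t ≫ jU = x ≫ t ≫ jU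
      rw [Limits.pullback.lift_fst_assoc])
    have hx : uC ≫ zCx = uE ≫ zEx := Over.OverMorphism.ext (by
      show Limits.pullback.lift x r h2 ≫ Limits.pullback.fst t _ ≫ (P.hom ⁻¹ᵁ U).ι =
        Limits.pullback.lift x e h1 ≫ Limits.pullback.fst t _ ≫ (P.hom ⁻¹ᵁ U).ι
      rw [Limits.pullback.lift_fst_assoc, Limits.pullback.lift_fst_assoc])
    have h := hΦ Z' (uE ≫ zEx) (uC ≫ zCt) (uE ≫ zEe)
    have h3 : uE ≫ lift zEx zEe ≫ φ = uC ≫ lift zCx zCt ≫ Φ := by
      rw [comp_lift_assoc, comp_lift_assoc, hx, h]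
    exact congrArg CommaMorphism.left h3
  let Ψ : A ⟶ Q.left := Ψ' ≫ (Q.hom ⁻¹ᵁ U).ι
  have hΨ : Limits.pullback.fst t (Spec.map (CommRingCat.ofHom (algebraMap R K))) ≫ Ψ = (lift zEx zEe ≫ φ).left := by
    show _ ≫ Ψ' ≫ _ = _
    rw [reassoc_of% hΨ', IsOpenImmersion.lift_fac]
  haveI : Flat t := inferInstance
  haveI : IsSchemeTheoreticallyDominant (Spec.map (CommRingCat.ofHom (algebraMap R K))) :=
    sd_specMap_fractionRing
  have hw : Ψ ≫ Q.hom = (overRestrict P U).hom := by
    have h1 : Set.range (Ψ ≫ Q.hom) ⊆ (U : Set X) := by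
      rintro _ ⟨z, rfl⟩
      exact (Ψ' z).2
    let l := IsOpenImmersion.lift jU (Ψ ≫ Q.hom) (h1.trans hU.range_fromSpec.ge)
    have hl : l ≫ jU = Ψ ≫ Q.hom := IsOpenImmersion.lift_fac _ _ _
    have : l = t := sd_ext (Limits.pullback.fst t (Spec.map (CommRingCat.ofHom (algebraMap R K))))
      (terminal.from (Spec R)) l t (terminal.hom_ext _ _) (by
        rw [← cancel_mono jU, Category.assoc, Category.assoc, hl, reassoc_of% hΨ, Over.w]
        rfl)
    rw [← hl, this, ht]
  refine ⟨Over.homMk Ψ hw, Over.OverMorphism.ext ?_⟩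
  let d : (overRestrict P U ⊗ genObj X).left ⟶ Limits.pullback t (Spec.map (CommRingCat.ofHom (algebraMap R K))) :=
    (isPullback_of_mono ht hjK).isoPullback.hom
  have hd1 : d ≫ Limits.pullback.fst t _ = (fst (overRestrict P U) (genObj X)).left :=
    IsPullback.isoPullback_hom_fst _
  have hd2 : d ≫ Limits.pullback.snd t _ = (snd (overRestrict P U) (genObj X)).left :=
    IsPullback.isoPullback_hom_snd _
  let D : overRestrict P U ⊗ genObj X ⟶ ZE := Over.homMk d (by
    show d ≫ Limits.pullback.fst t _ ≫ t ≫ jU = _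
    rw [reassoc_of% hd1, ht]
    exact Over.w (fst (overRestrict P U) (genObj X)))
  have hD : D ≫ lift zEx zEe = r ▷ genObj X := by
    apply CartesianMonoidalCategory.hom_ext
    · rw [Category.assoc, lift_fst, whiskerRight_fst]
      exact Over.OverMorphism.ext (by
        show d ≫ Limits.pullback.fst t _ ≫ (P.hom ⁻¹ᵁ U).ι = _
        rw [reassoc_of% hd1]; rfl)
    · rw [Category.assoc, lift_snd, whiskerRight_snd]
      exact Over.OverMorphism.ext hd2
  show (fst (overRestrict P U) (genObj X)).left ≫ Ψ = ((r ▷ genObj X) ≫ φ).left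
  rw [← hD]
  refine Eq.trans ?_ (congrArg CommaMorphism.left (Category.assoc D (lift zEx zEe) φ)).symm
  refine (congrArg (fun k => k ≫ Ψ) hd1.symm).trans ?_
  exact (Category.assoc _ _ _).trans (congrArg (fun k => d ≫ k) hΨ)

include hX in
theorem nonempty_equivIso_of_normal (hP : NonAbH1.IsTorsorFor Scheme.fppfPrecoverage a)
    (hQ : NonAbH1.IsTorsorFor Scheme.fppfPrecoverage a') (φ : P ⊗ genObj X ⟶ Q)
    (hφ : ∀ (Z : Over X) (h : Z ⟶ G) (x : Z ⟶ P) (e : Z ⟶ genObj X),
      lift (lift h x ≫ a.act) e ≫ φ = lift h (lift x e ≫ φ) ≫ a'.act) :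
    Nonempty (NonAbH1.EquivIso a a') := by
  have hP' := toFpqc hP
  haveI : IsFinite P.hom := isFinite_hom hP'
  haveI : IsFinite Q.hom := isFinite_hom (toFpqc hQ)
  haveI : Surjective P.hom := Groth.Agent.SchTorsor.surjective_hom hP'
  haveI : Flat P.hom := Groth.Agent.SchTorsor.torsor_property @Flat hP' inferInstance
  haveI : Flat (G ⊗ P).hom := by
    show Flat (pullback.fst G.hom P.hom ≫ G.hom)
    infer_instance
  refine nonempty_equivIso_of_extension' hP' hQ.1 φ hφ (fun f₁ f₂ => ext_generic f₁ f₂) ?_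
  choose V hV hxV _ using fun y : P.left => exists_isAffineOpen_mem_and_subset (x := P.hom y) (U := ⊤) trivial
  choose Ψ hΨ using fun y : P.left => exists_extension_affine hX hP.1 φ hφ (hV y)
    (Groth.Agent.SchTorsor.genericPoint_mem _ (hxV y))
  let 𝒰 : P.left.OpenCover := P.left.openCoverOfIsOpenCover (fun y => P.hom ⁻¹ᵁ V y)
    (TopologicalSpace.IsOpenCover.mk (top_unique fun y _ => TopologicalSpace.Opens.mem_iSup.2 ⟨y, hxV y⟩))
  let f : ∀ y, 𝒰.X y ⟶ Q.left := fun y => (Ψ y).left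
  have hcompat : ∀ y z, pullback.fst (𝒰.f y) (𝒰.f z) ≫ f y = pullback.snd (𝒰.f y) (𝒰.f z) ≫ f z := by
    intro y z
    let A : Over X := Over.mk (pullback.fst (𝒰.f y) (𝒰.f z) ≫ (overRestrict P (V y)).hom)
    let uy : A ⟶ overRestrict P (V y) := Over.homMk (pullback.fst (𝒰.f y) (𝒰.f z)) rfl
    let uz : A ⟶ overRestrict P (V z) := Over.homMk (pullback.snd (𝒰.f y) (𝒰.f z)) (by
      show pullback.snd (𝒰.f y) (𝒰.f z) ≫ 𝒰.f z ≫ P.hom = pullback.fst (𝒰.f y) (𝒰.f z) ≫ 𝒰.f y ≫ P.hom
      rw [← Category.assoc, ← pullback.condition, Category.assoc])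
    haveI : IsOpenImmersion (𝒰.f y) := inferInstance
    haveI : IsOpenImmersion (𝒰.f z) := inferInstance
    haveI : Flat A.hom := by
      show Flat (pullback.fst (𝒰.f y) (𝒰.f z) ≫ 𝒰.f y ≫ P.hom)
      infer_instance
    have huz : uy ≫ overRestrictι P (V y) = uz ≫ overRestrictι P (V z) :=
      Over.OverMorphism.ext pullback.condition
    have key : uy ≫ Ψ y = uz ≫ Ψ z := by
      refine ext_generic _ _ ?_
      have e1 : ∀ {B : Over X} (u : A ⟶ B), fst A (genObj X) ≫ u = (u ▷ genObj X) ≫ fst B (genObj X) :=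
        fun u => (whiskerRight_fst u (genObj X)).symm
      rw [← Category.assoc, ← Category.assoc, e1, e1, Category.assoc, Category.assoc, hΨ, hΨ,
        ← comp_whiskerRight_assoc, ← comp_whiskerRight_assoc, huz]
    exact congrArg CommaMorphism.left key
  let Φ : P ⟶ Q := Over.homMk (𝒰.glueMorphisms f hcompat) (𝒰.hom_ext _ _ fun y => by
    rw [Scheme.Cover.ι_glueMorphisms_assoc]
    exact Over.w (Ψ y))
  refine ⟨Φ, Over.OverMorphism.ext ?_⟩
  refine Scheme.Cover.hom_ext (𝒰.pullback₁ (fst P (genObj X)).left) _ _ fun y => ?_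
  let B : Over X := Over.mk (pullback.snd (fst P (genObj X)).left (𝒰.f y) ≫ (overRestrict P (V y)).hom)
  let b₁ : B ⟶ P ⊗ genObj X := Over.homMk (pullback.fst (fst P (genObj X)).left (𝒰.f y)) (by
    show pullback.fst (fst P (genObj X)).left (𝒰.f y) ≫ (P ⊗ genObj X).hom = _
    rw [← Over.w (fst P (genObj X)), pullback.condition_assoc]
    rfl)
  let b₂ : B ⟶ overRestrict P (V y) := Over.homMk (pullback.snd (fst P (genObj X)).left (𝒰.f y)) rfl
  have hb : b₁ ≫ fst P (genObj X) = b₂ ≫ overRestrictι P (V y) := Over.OverMorphism.ext pullback.condition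
  have hb' : overRestrictι P (V y) ≫ Φ = Ψ y :=
    Over.OverMorphism.ext (Scheme.Cover.ι_glueMorphisms 𝒰 f hcompat y)
  have h : b₁ ≫ fst P (genObj X) ≫ Φ = b₁ ≫ φ := by
    rw [reassoc_of% hb, hb']
    have h2 := congrArg (lift b₂ (b₁ ≫ snd P (genObj X)) ≫ ·) (hΨ y)
    simp only [lift_fst_assoc, lift_whiskerRight_assoc] at h2
    rw [h2, ← hb, lift_comp_fst_snd]
  exact congrArg CommaMorphism.left h

end Existence

end Groth.Agent.TorsNorm28
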