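import Groth.Agent.TorsNorm28.Basic
import Groth.Agent.SchTorsor.NormalExt
import Groth.Agent.SchTorsor.Point
import Groth.Agent.EtStalk.Normal
import Groth.Agent.AlgSpLib.EtLocalInst
import Mathlib.AlgebraicGeometry.Morphisms.QuasiFinite
import Mathlib.AlgebraicGeometry.Morphisms.FlatMono

/-!
Étale separated schemes over normal integral schemes with a rational generic point, and torsors
under étale group schemes defined over a field.
-/

universe u

open CategoryTheory CategoryTheory.Limits AlgebraicGeometry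

set_option linter.style.haveILetI false

namespace Groth.Agent.TorsNorm28

theorem exists_residue_factor {A B : Scheme.{u}} (f : A ⟶ B) {a : A} {b : B} (h : f a = b) :
    ∃ c : Spec (A.residueField a) ⟶ Spec (B.residueField b),
      c ≫ B.fromSpecResidueField b = A.fromSpecResidueField a ≫ f := by
  subst h
  exact ⟨Spec.map (f.residueFieldMap a), Scheme.Hom.SpecMap_residueFieldMap_fromSpecResidueField f a⟩

/-- A rational point is the residue field of its image. -/
theorem exists_point_factor {X E Y : Scheme.{u}} (g : E ⟶ X) {η : X} (x : Spec (X.residueField η) ⟶ E)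
    (hx : x ≫ g = X.fromSpecResidueField η) {x₀ : E}
    (hx₀ : ∀ p, x p = x₀) {w : Y} (f : Y ⟶ E) (hw : f w = x₀) :
    ∃ c, c ≫ x = Y.fromSpecResidueField w ≫ f := by
  let pt : Spec (X.residueField η) := IsLocalRing.closedPoint (X.residueField η)
  obtain ⟨F₀, hF₀⟩ := exists_residue_factor x (hx₀ pt)
  haveI : IsIso ((Spec (X.residueField η)).fromSpecResidueField pt) :=
    Groth.Agent.SchTorsor.fromSpecResidueField_isIso (K := X.residueField η) pt
  let F := inv ((Spec (X.residueField η)).fromSpecResidueField pt) ≫ F₀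
  have hF : F ≫ E.fromSpecResidueField x₀ = x := by
    simp [F, hF₀]
  have hgx : g x₀ = η := by
    rw [← hx₀ pt, ← Scheme.Hom.comp_apply, hx]
    exact X.fromSpecResidueField_apply η pt
  obtain ⟨H, hH⟩ := exists_residue_factor g hgx
  have hFH : F ≫ H = 𝟙 _ := by
    rw [← cancel_mono (X.fromSpecResidueField η), Category.assoc, hH, reassoc_of% hF, hx, Category.id_comp]
  obtain ⟨φ, hφ⟩ := Spec.map_surjective F
  obtain ⟨θ, hθ⟩ := Spec.map_surjective H
  have h1 : θ ≫ φ = 𝟙 _ := Spec.map_injective (by rw [Spec.map_comp, Spec.map_id, hφ, hθ, hFH])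
  have h2 : φ ≫ θ = 𝟙 _ := by
    ext a
    exact φ.hom.injective (congr($(h1) (φ.hom a)))
  have hHF : H ≫ F = 𝟙 _ := by
    rw [← hφ, ← hθ, ← Spec.map_comp, h2, Spec.map_id]
  obtain ⟨c, hc⟩ := exists_residue_factor f hw
  refine ⟨c ≫ H, ?_⟩
  rw [← hc, ← hF, Category.assoc, reassoc_of% hHF]

/-- Two morphisms from the spectrum of a residue field through a rational point agree once they agree
over the base. -/
theorem point_ext {X E Y : Scheme.{u}} (g : E ⟶ X) {η : X} (x : Spec (X.residueField η) ⟶ E)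
    (hx : x ≫ g = X.fromSpecResidueField η) {x₀ : E} (hx₀ : ∀ p, x p = x₀) {w : Y} (f f' : Y ⟶ E)
    (hw : f w = x₀) (hw' : f' w = x₀) (h : f ≫ g = f' ≫ g) :
    Y.fromSpecResidueField w ≫ f = Y.fromSpecResidueField w ≫ f' := by
  obtain ⟨c, hc⟩ := exists_point_factor g x hx hx₀ f hw
  obtain ⟨c', hc'⟩ := exists_point_factor g x hx hx₀ f' hw'
  have : c = c' := by
    rw [← cancel_mono (X.fromSpecResidueField η), ← hx, reassoc_of% hc, reassoc_of% hc', h]
  rw [← hc, ← hc', this]

/-- Every point of an étale scheme over a normal integral scheme has exactly one generization over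
the generic point. -/
theorem existsUnique_generization {X : Scheme.{u}} [IsIntegral X] (hX : Pi1.IsNormalScheme X)
    {W : Scheme.{u}} (g : W ⟶ X) [Etale g] (y : W) :
    ∃! η : W, g η = genericPoint X ∧ η ⤳ y := by
  haveI : IsDomain (W.presheaf.stalk y) := ((Groth.Agent.EtStalk.normal_stalk_iff g y).2 (hX _)).1
  let g₀ : W := (W.fromSpecStalk y).base ⟨⊥, Ideal.isPrime_bot⟩
  obtain ⟨η, h1, h2⟩ := (Flat.generalizingMap g) (genericPoint_specializes (g y))
  have key : ∀ η : W, g η = genericPoint X → η ⤳ y → η = g₀ := by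
    intro η hη hηy
    obtain ⟨p, rfl⟩ : η ∈ Set.range (W.fromSpecStalk y).base := by
      rw [Scheme.range_fromSpecStalk]; exact hηy
    have hs : g₀ ⤳ (W.fromSpecStalk y).base p :=
      ((PrimeSpectrum.le_iff_specializes (⟨⊥, Ideal.isPrime_bot⟩ : PrimeSpectrum _) p).1
        (bot_le (a := p.asIdeal))).map (W.fromSpecStalk y).continuous
    have hs' : g g₀ = genericPoint X := by
      refine (((genericPoint_specializes (g g₀))).antisymm ?_).eq.symm
      exact hη ▸ hs.map g.continuous
    have hd := (g.isDiscrete_preimage_singleton (genericPoint X)).to_subtype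
    let a : ↥(g ⁻¹' {genericPoint X}) := ⟨g₀, hs'⟩
    let b : ↥(g ⁻¹' {genericPoint X}) := ⟨_, hη⟩
    exact (congrArg Subtype.val ((subtype_specializes_iff a b).2 hs).eq).symm
  exact ⟨η, ⟨h2, h1⟩, fun η' h' => (key η' h'.1 h'.2).trans (key η h2 h1).symm⟩

/-- The points generalising to a given point of the generic fibre form an open set. -/
theorem isOpen_specializations {X : Scheme.{u}} [IsIntegral X] (hX : Pi1.IsNormalScheme X)
    {W : Scheme.{u}} (g : W ⟶ X) [Etale g] {x₀ : W} (hx₀ : g x₀ = genericPoint X) :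
    IsOpen {e : W | x₀ ⤳ e} := by
  refine isOpen_iff_forall_mem_open.2 fun e he => ?_
  obtain ⟨U, hU, heU, -⟩ := exists_isAffineOpen_mem_and_subset (x := g e) (U := ⊤) trivial
  obtain ⟨V, hV, heV, hVU⟩ := exists_isAffineOpen_mem_and_subset (x := e) (U := g ⁻¹ᵁ U) heU
  haveI : IsAffine V.toScheme := hV
  haveI : IsAffine U.toScheme := hU
  let gV : V.toScheme ⟶ U.toScheme := g.resLE U V hVU
  have hη : genericPoint X ∈ U := SchTorsor.genericPoint_mem U heU
  have hF : {i : W | i ∈ V ∧ g i = genericPoint X}.Finite := by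
    refine ((gV.finite_preimage_singleton ⟨_, hη⟩).image V.ι).subset ?_
    rintro i ⟨hi, hgi⟩
    refine ⟨⟨i, hi⟩, ?_, rfl⟩
    refine Subtype.ext ?_
    show ((gV ≫ U.ι) : V.toScheme ⟶ X) ⟨i, hi⟩ = genericPoint X
    rw [Scheme.Hom.resLE_comp_ι]
    exact hgi
  let C : Set W := ⋃ i ∈ {i : W | i ∈ V ∧ g i = genericPoint X} \ {x₀}, closure {i}
  have hC : IsClosed C := (hF.subset Set.sdiff_subset).isClosed_biUnion fun _ _ => isClosed_closure
  refine ⟨(V : Set W) \ C, fun a ha => ?_, V.isOpen.sdiff hC, heV, ?_⟩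
  · obtain ⟨i, ⟨hi, hia⟩, -⟩ := existsUnique_generization hX g a
    by_cases h : i = x₀
    · exact h ▸ hia
    · refine absurd ?_ ha.2
      exact Set.mem_iUnion₂.2 ⟨i, ⟨⟨hia.mem_open V.isOpen ha.1, hi⟩, h⟩, specializes_iff_mem_closure.1 hia⟩
  · simp only [C, Set.mem_iUnion, not_exists]
    rintro i ⟨⟨-, hi⟩, hne⟩ hie
    exact hne ((existsUnique_generization hX g e).unique ⟨hi, specializes_iff_mem_closure.2 hie⟩ ⟨hx₀, he⟩)

/-- A rational generic point of an étale separated scheme over a normal integral scheme all of whose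
specialisations cover the base extends to a section. -/
theorem exists_section_of_etale {X : Scheme.{u}} [IsIntegral X] (hX : Pi1.IsNormalScheme X)
    {E : Scheme.{u}} (g : E ⟶ X) [Etale g] [IsSeparated g]
    (x : Spec (X.residueField (genericPoint X)) ⟶ E) (hx : x ≫ g = X.fromSpecResidueField (genericPoint X))
    (hlift : ∀ s : X, ∃ e : E, g e = s ∧ ∀ p, x p ⤳ e) :
    ∃ σ : X ⟶ E, σ ≫ g = 𝟙 X ∧ X.fromSpecResidueField (genericPoint X) ≫ σ = x := by
  let pt : Spec (X.residueField (genericPoint X)) := IsLocalRing.closedPoint (X.residueField (genericPoint X))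
  let x₀ : E := x pt
  have hx₀ : ∀ p, x p = x₀ := fun p => congrArg x (Subsingleton.elim _ _)
  have hgx : g x₀ = genericPoint X := by
    show g (x pt) = _
    rw [← Scheme.Hom.comp_apply, hx]
    exact X.fromSpecResidueField_apply _ pt
  let Z : E.Opens := ⟨{e : E | x₀ ⤳ e}, isOpen_specializations hX g hgx⟩
  let h : Z.toScheme ⟶ X := Z.ι ≫ g
  haveI : Surjective h := ⟨fun s => by
    obtain ⟨e, he, hs⟩ := hlift s
    exact ⟨⟨e, hs pt⟩, he⟩⟩
  haveI : Surjective (pullback.diagonal h) := ⟨fun w => by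
    let q : pullback h h ⟶ X := pullback.fst h h ≫ h
    obtain ⟨w₀, hw₀, hqw₀⟩ := (Flat.generalizingMap q) (genericPoint_specializes (q w))
    have himg : ∀ z : Z.toScheme, h z = genericPoint X → Z.ι z = x₀ := fun z hz =>
      (existsUnique_generization hX g (Z.ι z)).unique ⟨hz, specializes_rfl⟩ ⟨hgx, z.2⟩
    have h1 : Z.ι (pullback.fst h h w₀) = x₀ := himg _ hqw₀
    have h2 : Z.ι (pullback.snd h h w₀) = x₀ := himg _ (by
      rw [← Scheme.Hom.comp_apply, ← pullback.condition]; exact hqw₀)
    have h3 := point_ext g x hx hx₀ (w := w₀) (pullback.fst h h ≫ Z.ι) (pullback.snd h h ≫ Z.ι) h1 h2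
      (by simp only [Category.assoc]; exact pullback.condition)
    rw [← Category.assoc, ← Category.assoc, cancel_mono] at h3
    have h4 : (pullback h h).fromSpecResidueField w₀ =
        ((pullback h h).fromSpecResidueField w₀ ≫ pullback.fst h h) ≫ pullback.diagonal h := by
      apply pullback.hom_ext <;> simp [h3]
    have hmem : w₀ ∈ Set.range (pullback.diagonal h) := by
      refine ⟨((pullback h h).fromSpecResidueField w₀ ≫ pullback.fst h h)
        (IsLocalRing.closedPoint ((pullback h h).residueField w₀)), ?_⟩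
      rw [← Scheme.Hom.comp_apply, ← h4]
      exact (pullback h h).fromSpecResidueField_apply w₀ _
    exact hw₀.mem_closed (pullback.diagonal h).isClosedMap.isClosed_range hmem⟩
  haveI : IsOpenImmersion (pullback.diagonal h) := inferInstance
  haveI : IsIso (pullback.diagonal h) :=
    (isIso_iff_isOpenImmersion_and_surjective _).2 ⟨inferInstance, inferInstance⟩
  haveI : Mono h := (pullback.isIso_diagonal_iff h).1 inferInstance
  haveI : IsOpenImmersion h := IsOpenImmersion.of_flat_of_mono h
  haveI : IsIso h := (isIso_iff_isOpenImmersion_and_surjective _).2 ⟨inferInstance, inferInstance⟩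
  refine ⟨inv h ≫ Z.ι, by simp [h], ?_⟩
  let x' := IsOpenImmersion.lift Z.ι x (by
    rintro _ ⟨p, rfl⟩
    rw [Scheme.Opens.range_ι]
    show x₀ ⤳ x p
    rw [hx₀ p])
  have hx' : x' ≫ Z.ι = x := IsOpenImmersion.lift_fac _ _ _
  have : x' ≫ h = X.fromSpecResidueField (genericPoint X) := by
    show x' ≫ Z.ι ≫ g = _
    rw [reassoc_of% hx', hx]
  rw [← this]
  simp [hx']

/-- Base changes of locally quasi-finite schemes over a field satisfy going up. -/
theorem specializingMap_snd_of_field {k : Type u} [Field k] {G U : Scheme.{u}}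
    (g : G ⟶ Spec (CommRingCat.of k)) [LocallyQuasiFinite g] (t : U ⟶ Spec (CommRingCat.of k)) :
    SpecializingMap (pullback.snd g t) := by
  intro p u hu
  obtain ⟨W, hW, hpW, -⟩ := exists_isAffineOpen_mem_and_subset (x := pullback.fst g t p) (U := ⊤) trivial
  haveI : IsAffine W.toScheme := hW
  haveI : IsFinite (W.ι ≫ g) := IsFinite.of_locallyQuasiFinite _
  let j : pullback (W.ι ≫ g) t ⟶ pullback g t :=
    pullback.map (W.ι ≫ g) t g t W.ι (𝟙 U) (𝟙 _) (by simp) (by simp)
  obtain ⟨q, rfl⟩ : p ∈ Set.range j := by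
    rw [Scheme.Pullback.range_map]
    exact ⟨⟨⟨_, hpW⟩, rfl⟩, pullback.snd g t p, rfl⟩
  have hj : j ≫ pullback.snd g t = pullback.snd (W.ι ≫ g) t :=
    (pullback.lift_snd _ _ _).trans (Category.comp_id _)
  have hu' : pullback.snd (W.ι ≫ g) t q ⤳ u := by
    rw [← hj, Scheme.Hom.comp_apply]; exact hu
  obtain ⟨q', hq', rfl⟩ := (pullback.snd (W.ι ≫ g) t).isClosedMap.specializingMap hu'
  exact ⟨j q', hq'.map j.continuous, by rw [← Scheme.Hom.comp_apply, hj]⟩

theorem specializingMap_of_iso_comp {A B C : Scheme.{u}} (e : A ⟶ B) [IsIso e] (h : B ⟶ C)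
    (H : SpecializingMap (e ≫ h)) : SpecializingMap h := by
  intro b c hc
  have hb : (e ≫ h) (inv e b) = h b := by
    rw [← Scheme.Hom.comp_apply, IsIso.inv_hom_id_assoc]
  obtain ⟨a, ha, rfl⟩ := H (a := inv e b) (b := c) (hb ▸ hc)
  refine ⟨e a, ?_, rfl⟩
  have := ha.map e.continuous
  rwa [← Scheme.Hom.comp_apply, IsIso.inv_hom_id] at this

end Groth.Agent.TorsNorm28
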