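import Groth.Agent.TorsNorm28.Basic
import Groth.Agent.TorsNorm28.Classes
import Mathlib.AlgebraicGeometry.Morphisms.SchemeTheoreticallyDominant
import Mathlib.AlgebraicGeometry.EffectiveEpi
import Mathlib.AlgebraicGeometry.Sites.Fpqc

/-!
Extending equivariant morphisms between torsors given over a dense base change.
-/

universe u

open CategoryTheory MonoidalCategory CartesianMonoidalCategory MonObj GrpObj AlgebraicGeometry
open CategoryTheory.Limits

set_option linter.style.haveILetI false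

namespace Groth.Agent.TorsNorm28

/-- Morphisms to a separated scheme are determined on a scheme-theoretically dense piece. -/
theorem sd_ext {W A Y S : Scheme.{u}} (w : W ⟶ A) [IsSchemeTheoreticallyDominant w] (g : Y ⟶ S) [IsSeparated g]
    (a b : A ⟶ Y) (h : a ≫ g = b ≫ g) (e : w ≫ a = w ≫ b) : a = b := by
  let l := pullback.lift a b h
  have hle : (pullback.snd (pullback.diagonal g) l).ker ≤ ⊥ := by
    rw [← w.ker_eq_bot]
    conv_rhs => rw [← pullback.lift_snd (w ≫ a) w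
      (show (w ≫ a) ≫ pullback.diagonal g = w ≫ l by
        apply pullback.hom_ext
        · simp only [l, Category.assoc, pullback.diagonal_fst, pullback.lift_fst, Category.comp_id]
        · simp only [l, Category.assoc, pullback.diagonal_snd, pullback.lift_snd, Category.comp_id]
          exact e)]
    exact Scheme.Hom.le_ker_comp _ _
  haveI := IsClosedImmersion.isIso_iff_ker_eq_bot.mpr (le_bot_iff.mp hle)
  have hl : inv (pullback.snd (pullback.diagonal g) l) ≫ pullback.fst (pullback.diagonal g) l ≫ pullback.diagonal g = l := by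
    rw [pullback.condition, IsIso.inv_hom_id_assoc]
  have h1 := congrArg (· ≫ pullback.fst g g) hl
  have h2 := congrArg (· ≫ pullback.snd g g) hl
  simp only [Category.assoc, pullback.diagonal_fst, pullback.diagonal_snd, Category.comp_id, l, pullback.lift_fst,
    pullback.lift_snd] at h1 h2
  exact h1.symm.trans h2

variable {S : Scheme.{u}} {G P Q E T : Over S}

theorem sd_ext_over {W A : Over S} (w : W ⟶ A) [IsSchemeTheoreticallyDominant w.left] [IsSeparated Q.hom]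
    (a b : A ⟶ Q) (e : w ≫ a = w ≫ b) : a = b :=
  Over.OverMorphism.ext (sd_ext w.left Q.hom a.left b.left (by rw [Over.w a, Over.w b])
    (congrArg CommaMorphism.left e))

theorem sd_fst (A : Over S) [Flat A.hom] [IsSchemeTheoreticallyDominant E.hom] [QuasiCompact E.hom] :
    IsSchemeTheoreticallyDominant (fst A E).left :=
  inferInstanceAs (IsSchemeTheoreticallyDominant (pullback.fst A.hom E.hom))

variable [GrpObj G] {a : AlgGrp.Action G P} {a' : AlgGrp.Action G Q}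

/-- An equivariant family of points over the generic piece extends over an auxiliary base carrying
compatible sections. -/
theorem exists_extension_aux (ha : NonAbH1.IsPseudoTorsorSch a) [IsSeparated Q.hom] (φ : P ⊗ E ⟶ Q)
    (hφ : ∀ (Z : Over S) (h : Z ⟶ G) (x : Z ⟶ P) (e : Z ⟶ E),
      lift (lift h x ≫ a.act) e ≫ φ = lift h (lift x e ≫ φ) ≫ a'.act)
    (p : T ⟶ P) (q : T ⟶ Q) {W : Over S} (w : W ⟶ T ⊗ E) [IsSchemeTheoreticallyDominant w.left]
    (hpq : w ≫ fst T E ≫ q = w ≫ lift (fst T E ≫ p) (snd T E) ≫ φ) :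
    ∃ Φ : P ⊗ T ⟶ Q, ∀ (Z : Over S) (x : Z ⟶ P) (t : Z ⟶ T) (e : Z ⟶ E),
      lift x t ≫ Φ = lift x e ≫ φ := by
  have heq : fst T E ≫ q = lift (fst T E ≫ p) (snd T E) ≫ φ := sd_ext_over w _ _ hpq
  obtain ⟨d, hd⟩ := Groth.Agent.SchTorsor.exists_div ha (fst P T) (snd P T ≫ p)
  refine ⟨lift d (snd P T ≫ q) ≫ a'.act, fun Z x t e => ?_⟩
  have h1 := congrArg (lift x t ≫ ·) hd
  simp only [comp_lift_assoc, lift_fst, lift_snd_assoc] at h1
  have h2 := congrArg (lift t e ≫ ·) heq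
  simp only [comp_lift_assoc, lift_fst, lift_snd, lift_fst_assoc] at h2
  rw [comp_lift_assoc, lift_snd_assoc, h2, ← hφ Z (lift x t ≫ d) (t ≫ p) e, h1]

/-- Descent of an extension along a faithfully flat quasi-compact auxiliary base. -/
theorem exists_extension_descend [Flat P.hom] [IsSeparated Q.hom] [IsSchemeTheoreticallyDominant E.hom]
    [QuasiCompact E.hom] [Flat T.hom] [Surjective T.hom] [QuasiCompact T.hom]
    (φ : P ⊗ E ⟶ Q) (Φ : P ⊗ T ⟶ Q)
    (hΦ : ∀ (Z : Over S) (x : Z ⟶ P) (t : Z ⟶ T) (e : Z ⟶ E), lift x t ≫ Φ = lift x e ≫ φ) :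
    ∃ Ψ : P ⟶ Q, fst P E ≫ Ψ = φ := by
  haveI : Flat (P ⊗ (T ⊗ T)).hom := by
    show Flat (pullback.fst P.hom (T ⊗ T).hom ≫ P.hom)
    haveI : Flat (T ⊗ T).hom := inferInstanceAs (Flat (pullback.fst T.hom T.hom ≫ T.hom))
    infer_instance
  haveI := sd_fst (E := E) (P ⊗ (T ⊗ T))
  have key : lift (fst P (T ⊗ T)) (snd P (T ⊗ T) ≫ fst T T) ≫ Φ =
      lift (fst P (T ⊗ T)) (snd P (T ⊗ T) ≫ snd T T) ≫ Φ := by
    refine sd_ext_over (fst (P ⊗ (T ⊗ T)) E) _ _ ?_
    rw [comp_lift_assoc, comp_lift_assoc, hΦ _ _ _ (snd (P ⊗ (T ⊗ T)) E),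
      hΦ _ _ _ (snd (P ⊗ (T ⊗ T)) E)]
  let f : (P ⊗ T).left ⟶ P.left := (fst P T).left
  haveI : Flat f := inferInstanceAs (Flat (pullback.fst P.hom T.hom))
  haveI : Surjective f := inferInstanceAs (Surjective (pullback.fst P.hom T.hom))
  haveI : QuasiCompact f := inferInstanceAs (QuasiCompact (pullback.fst P.hom T.hom))
  haveI : EffectiveEpi f := inferInstance
  have hcompat : ∀ {Z : Scheme.{u}} (g₁ g₂ : Z ⟶ (P ⊗ T).left), g₁ ≫ f = g₂ ≫ f →
      g₁ ≫ Φ.left = g₂ ≫ Φ.left := by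
    intro Z g₁ g₂ hg
    let Z' : Over S := Over.mk (g₁ ≫ (P ⊗ T).hom)
    let u₁ : Z' ⟶ P ⊗ T := Over.homMk g₁ rfl
    let u₂ : Z' ⟶ P ⊗ T := Over.homMk g₂ (by
      show g₂ ≫ (P ⊗ T).hom = g₁ ≫ (P ⊗ T).hom
      rw [← Over.w (fst P T), ← Category.assoc, ← Category.assoc]
      exact congrArg (· ≫ P.hom) hg.symm)
    have hfst : u₁ ≫ fst P T = u₂ ≫ fst P T := Over.OverMorphism.ext hg
    have h := congrArg (lift (u₁ ≫ fst P T) (lift (u₁ ≫ snd P T) (u₂ ≫ snd P T)) ≫ ·) key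
    simp only [comp_lift_assoc, lift_fst, lift_snd_assoc, lift_snd] at h
    rw [lift_comp_fst_snd, hfst, lift_comp_fst_snd] at h
    exact congrArg CommaMorphism.left h
  let ψ : P.left ⟶ Q.left := EffectiveEpi.desc f Φ.left hcompat
  have hψ : f ≫ ψ = Φ.left := EffectiveEpi.fac f Φ.left hcompat
  let Ψ : P ⟶ Q := Over.homMk ψ (by
    rw [← cancel_epi f, reassoc_of% hψ, Over.w Φ]
    exact (Over.w (fst P T)).symm)
  have hΨ : fst P T ≫ Ψ = Φ := Over.OverMorphism.ext hψ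
  refine ⟨Ψ, ?_⟩
  haveI : Epi (fst (P ⊗ E) T).left :=
    inferInstanceAs (Epi (pullback.fst (P ⊗ E).hom T.hom))
  refine (Over.OverMorphism.ext ?_)
  rw [← cancel_epi (fst (P ⊗ E) T).left, ← Over.comp_left, ← Over.comp_left]
  congr 1
  have h := hΦ _ (fst (P ⊗ E) T ≫ fst P E) (snd (P ⊗ E) T) (fst (P ⊗ E) T ≫ snd P E)
  rw [lift_comp_fst_snd, ← hΨ, lift_fst_assoc, Category.assoc] at h
  exact h

/-- An equivariant family over the generic piece with an extension gives an equivariant isomorphism,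
as soon as morphisms out of `G ⊗ P` are determined on that piece. -/
theorem nonempty_equivIso_of_extension' (ha : NonAbH1.IsTorsorFor Scheme.fpqcPrecoverage a)
    (ha' : NonAbH1.IsPseudoTorsorSch a') (φ : P ⊗ E ⟶ Q)
    (hφ : ∀ (Z : Over S) (h : Z ⟶ G) (x : Z ⟶ P) (e : Z ⟶ E),
      lift (lift h x ≫ a.act) e ≫ φ = lift h (lift x e ≫ φ) ≫ a'.act)
    (huniq : ∀ f₁ f₂ : G ⊗ P ⟶ Q, fst (G ⊗ P) E ≫ f₁ = fst (G ⊗ P) E ≫ f₂ → f₁ = f₂)
    (hext : ∃ Ψ : P ⟶ Q, fst P E ≫ Ψ = φ) : Nonempty (NonAbH1.EquivIso a a') := by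
  obtain ⟨Ψ, hΨ⟩ := hext
  have hpt : ∀ {Z : Over S} (x : Z ⟶ P) (e : Z ⟶ E), x ≫ Ψ = lift x e ≫ φ := fun x e => by
    rw [← hΨ, lift_fst_assoc]
  have heqv : a.act ≫ Ψ = (G ◁ Ψ) ≫ a'.act := by
    refine huniq _ _ ?_
    have hW : G ◁ Ψ = lift (fst G P) (snd G P ≫ Ψ) :=
      CartesianMonoidalCategory.hom_ext _ _ (by simp) (by simp)
    rw [hW, comp_lift_assoc, ← Category.assoc, ← Category.assoc, hpt _ (snd (G ⊗ P) E),
      hpt _ (snd (G ⊗ P) E), ← hφ]
    congr 2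
    rw [← comp_lift_assoc, lift_fst_snd]
    simp
  haveI : IsIso Ψ := Groth.Agent.SchTorsor.isIso_of_equivariant ha ha' Ψ heqv
  exact ⟨⟨asIso Ψ, heqv⟩⟩

/-- An equivariant family over the generic piece with an extension gives an equivariant isomorphism. -/
theorem nonempty_equivIso_of_extension (ha : NonAbH1.IsTorsorFor Scheme.fpqcPrecoverage a)
    (ha' : NonAbH1.IsPseudoTorsorSch a') [Flat G.hom] [IsSeparated Q.hom]
    [IsSchemeTheoreticallyDominant E.hom] [QuasiCompact E.hom] (φ : P ⊗ E ⟶ Q)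
    (hφ : ∀ (Z : Over S) (h : Z ⟶ G) (x : Z ⟶ P) (e : Z ⟶ E),
      lift (lift h x ≫ a.act) e ≫ φ = lift h (lift x e ≫ φ) ≫ a'.act)
    (hext : ∃ Ψ : P ⟶ Q, fst P E ≫ Ψ = φ) : Nonempty (NonAbH1.EquivIso a a') := by
  haveI : Flat P.hom := Groth.Agent.SchTorsor.torsor_property @Flat ha inferInstance
  haveI : Flat (G ⊗ P).hom := by
    show Flat (pullback.fst G.hom P.hom ≫ G.hom)
    infer_instance
  haveI := sd_fst (E := E) (G ⊗ P)
  exact nonempty_equivIso_of_extension' ha ha' φ hφ (fun f₁ f₂ => sd_ext_over (fst (G ⊗ P) E) f₁ f₂) hext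

end Groth.Agent.TorsNorm28
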