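import Groth.Agent.TorsNorm28.IntClosure
import Mathlib.RingTheory.Flat.Basic
import Mathlib.RingTheory.Flat.Localization
import Mathlib.LinearAlgebra.TensorProduct.RightExactness

/-!
Extending maps into affine schemes from the generic fibre and an integral auxiliary base.
-/

universe u

open CategoryTheory CategoryTheory.Limits AlgebraicGeometry TensorProduct

set_option linter.style.haveILetI false

namespace Groth.Agent.TorsNorm28

section Algebra

variable {R K L : Type u} [CommRing R] [IsDomain R] [IsIntegrallyClosed R] [Field K] [Algebra R K]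
  [IsFractionRing R K] [Field L] [Algebra R L] [Algebra K L] [IsScalarTower R K L]
  {A : Type u} [CommRing A] [Algebra R A] [Module.Flat R A]

theorem exact_integralClosure :
    Function.Exact ((Algebra.linearMap R K).prod (Algebra.linearMap R (integralClosure R L)))
      (((Algebra.TensorProduct.includeRight : K →ₐ[R] integralClosure R L ⊗[R] K).toLinearMap.comp
          (LinearMap.fst R K (integralClosure R L))) -
        ((Algebra.TensorProduct.includeLeft : integralClosure R L →ₐ[R] integralClosure R L ⊗[R] K).toLinearMap.comp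
          (LinearMap.snd R K (integralClosure R L)))) := by
  rintro ⟨k, y⟩
  constructor
  · intro h
    have h0 : (1 : integralClosure R L) ⊗ₜ[R] k = y ⊗ₜ[R] (1 : K) := sub_eq_zero.1 h
    have h1 := congrArg (Algebra.TensorProduct.lift (IsScalarTower.toAlgHom R (integralClosure R L) L)
      (IsScalarTower.toAlgHom R K L) fun _ _ => Commute.all _ _) h0
    simp only [Algebra.TensorProduct.lift_tmul, map_one, one_mul, mul_one, IsScalarTower.toAlgHom_apply] at h1
    have hk : IsIntegral R k := by
      refine (isIntegral_algHom_iff (IsScalarTower.toAlgHom R K L) (algebraMap K L).injective).1 ?_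
      rw [IsScalarTower.toAlgHom_apply, h1]
      exact y.2
    obtain ⟨r, rfl⟩ := IsIntegrallyClosed.isIntegral_iff.1 hk
    refine ⟨r, Prod.ext rfl (Subtype.ext ?_)⟩
    show algebraMap R L r = (y : L)
    rw [IsScalarTower.algebraMap_apply R K L, h1]
    rfl
  · rintro ⟨r, hr⟩
    rw [← hr]
    show (1 : integralClosure R L) ⊗ₜ[R] algebraMap R K r - algebraMap R (integralClosure R L) r ⊗ₜ[R] (1 : K) = 0
    rw [Algebra.algebraMap_eq_smul_one, Algebra.algebraMap_eq_smul_one, tmul_smul, smul_tmul', sub_self]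

/-- An element of `A ⊗ K` lying in `A ⊗ R'` comes from `A`. -/
theorem exists_of_agree (u : A ⊗[R] K) (v : A ⊗[R] integralClosure R L)
    (h : Algebra.TensorProduct.map (AlgHom.id R A) (Algebra.TensorProduct.includeRight : K →ₐ[R] integralClosure R L ⊗[R] K) u =
      Algebra.TensorProduct.map (AlgHom.id R A)
        (Algebra.TensorProduct.includeLeft : integralClosure R L →ₐ[R] integralClosure R L ⊗[R] K) v) :
    ∃ a : A, a ⊗ₜ[R] (1 : K) = u := by
  set f := (Algebra.linearMap R K).prod (Algebra.linearMap R (integralClosure R L))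
  set ir := (Algebra.TensorProduct.includeRight : K →ₐ[R] integralClosure R L ⊗[R] K).toLinearMap
  set il := (Algebra.TensorProduct.includeLeft : integralClosure R L →ₐ[R] integralClosure R L ⊗[R] K).toLinearMap
  have hu : ir.lTensor A u = il.lTensor A v := h
  let z := (LinearMap.inl R K (integralClosure R L)).lTensor A u +
    (LinearMap.inr R K (integralClosure R L)).lTensor A v
  have hz : (ir.comp (LinearMap.fst R K (integralClosure R L)) -
      il.comp (LinearMap.snd R K (integralClosure R L))).lTensor A z = 0 := by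
    simp only [z, map_add, ← LinearMap.comp_apply, ← LinearMap.lTensor_comp]
    have e1 : (ir.comp (LinearMap.fst R K (integralClosure R L)) -
      il.comp (LinearMap.snd R K (integralClosure R L))).comp (LinearMap.inl R K (integralClosure R L)) = ir :=
      LinearMap.ext fun k => by simp
    have e2 : (ir.comp (LinearMap.fst R K (integralClosure R L)) -
      il.comp (LinearMap.snd R K (integralClosure R L))).comp (LinearMap.inr R K (integralClosure R L)) = -il :=
      LinearMap.ext fun k => by simp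
    rw [e1, e2, LinearMap.lTensor_neg, LinearMap.neg_apply, hu, add_neg_cancel]
  obtain ⟨w, hw⟩ := (Module.Flat.lTensor_exact A (exact_integralClosure (R := R) (K := K) (L := L)) z).1 hz
  refine ⟨TensorProduct.rid R A w, ?_⟩
  have hw' := congrArg ((LinearMap.fst R K (integralClosure R L)).lTensor A) hw
  simp only [z, map_add, ← LinearMap.comp_apply, ← LinearMap.lTensor_comp, LinearMap.fst_comp_inl,
    LinearMap.fst_comp_inr, LinearMap.lTensor_id, LinearMap.lTensor_zero, LinearMap.zero_apply, add_zero,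
    LinearMap.id_apply, LinearMap.fst_prod] at hw'
  rw [← hw']
  conv_rhs => rw [← (TensorProduct.rid R A).symm_apply_apply w, TensorProduct.rid_symm_apply]
  simp

end Algebra

/-- Maps to an affine scheme defined over the generic point and over an integral extension, agreeing
on the overlap, are defined over the base. -/
theorem exists_glue_affine (R K L : Type u) [CommRing R] [IsDomain R] [IsIntegrallyClosed R] [Field K] [Algebra R K]
    [IsFractionRing R K] [Field L] [Algebra R L] [Algebra K L] [IsScalarTower R K L]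
    {T Y : Scheme.{u}} [IsAffine T] [IsAffine Y] (t : T ⟶ Spec (CommRingCat.of R)) [Flat t]
    (φ : pullback t (Spec.map (CommRingCat.ofHom (algebraMap R K))) ⟶ Y) (Φ : pullback t (icBase R L) ⟶ Y)
    (h : ∀ {Z : Scheme.{u}} (x : Z ⟶ T) (e : Z ⟶ Spec (CommRingCat.of K))
      (r : Z ⟶ Spec (CommRingCat.of (integralClosure R L))) (h1 : x ≫ t = e ≫ Spec.map (CommRingCat.ofHom (algebraMap R K)))
      (h2 : x ≫ t = r ≫ icBase R L), pullback.lift x e h1 ≫ φ = pullback.lift x r h2 ≫ Φ) :
    ∃ Ψ : T ⟶ Y, pullback.fst t (Spec.map (CommRingCat.ofHom (algebraMap R K))) ≫ Ψ = φ := by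
  obtain ⟨α, hα⟩ := Spec.map_surjective (T.isoSpec.inv ≫ t)
  algebraize [α.hom]
  haveI : Module.Flat R Γ(T, ⊤) := by
    have : Flat (Spec.map α) := by rw [hα]; infer_instance
    exact Flat.SpecMap_iff.1 this
  let t₀ : Spec Γ(T, ⊤) ⟶ Spec (CommRingCat.of R) := Spec.map α
  let eK : Spec (CommRingCat.of (Γ(T, ⊤) ⊗[R] K)) ⟶ pullback t (Spec.map (CommRingCat.ofHom (algebraMap R K))) :=
    (pullbackSpecIso R Γ(T, ⊤) K).inv ≫ pullback.map _ _ _ _ T.isoSpec.inv (𝟙 _) (𝟙 _)
      (by rw [Category.comp_id, ← hα]; rfl) (by simp)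
  let eC : Spec (CommRingCat.of (Γ(T, ⊤) ⊗[R] integralClosure R L)) ⟶ pullback t (icBase R L) :=
    (pullbackSpecIso R Γ(T, ⊤) (integralClosure R L)).inv ≫ pullback.map _ _ _ _ T.isoSpec.inv (𝟙 _) (𝟙 _)
      (by rw [Category.comp_id, ← hα]; rfl) (by simp)
  have eKf : eK ≫ pullback.fst _ _ = Spec.map (CommRingCat.ofHom Algebra.TensorProduct.includeLeftRingHom) ≫ T.isoSpec.inv := by
    simp only [eK, Category.assoc, pullback.map, pullback.lift_fst]
    rw [pullbackSpecIso_inv_fst_assoc]
  have eKs : eK ≫ pullback.snd _ _ = Spec.map (CommRingCat.ofHom Algebra.TensorProduct.includeRight.toRingHom) := by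
    simp only [eK, Category.assoc, pullback.map, pullback.lift_snd, Category.comp_id]
    exact pullbackSpecIso_inv_snd R Γ(T, ⊤) K
  have eCf : eC ≫ pullback.fst _ _ = Spec.map (CommRingCat.ofHom Algebra.TensorProduct.includeLeftRingHom) ≫ T.isoSpec.inv := by
    simp only [eC, Category.assoc, pullback.map, pullback.lift_fst]
    rw [pullbackSpecIso_inv_fst_assoc]
  have eCs : eC ≫ pullback.snd _ _ = Spec.map (CommRingCat.ofHom Algebra.TensorProduct.includeRight.toRingHom) := by
    simp only [eC, Category.assoc, pullback.map, pullback.lift_snd, Category.comp_id]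
    exact pullbackSpecIso_inv_snd R Γ(T, ⊤) (integralClosure R L)
  obtain ⟨ψ, hψ⟩ := Spec.map_surjective (eK ≫ φ ≫ Y.isoSpec.hom)
  obtain ⟨χ, hχ⟩ := Spec.map_surjective (eC ≫ Φ ≫ Y.isoSpec.hom)
  let m₁ : CommRingCat.of (Γ(T, ⊤) ⊗[R] K) ⟶ CommRingCat.of (Γ(T, ⊤) ⊗[R] (integralClosure R L ⊗[R] K)) := CommRingCat.ofHom (Algebra.TensorProduct.map (AlgHom.id R Γ(T, ⊤))
    (Algebra.TensorProduct.includeRight : K →ₐ[R] integralClosure R L ⊗[R] K)).toRingHom
  let m₂ : CommRingCat.of (Γ(T, ⊤) ⊗[R] integralClosure R L) ⟶ CommRingCat.of (Γ(T, ⊤) ⊗[R] (integralClosure R L ⊗[R] K)) := CommRingCat.ofHom (Algebra.TensorProduct.map (AlgHom.id R Γ(T, ⊤))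
    (Algebra.TensorProduct.includeLeft : integralClosure R L →ₐ[R] integralClosure R L ⊗[R] K)).toRingHom
  have hf : (Spec.map m₁ ≫ eK) ≫ pullback.fst _ _ = (Spec.map m₂ ≫ eC) ≫ pullback.fst _ _ := by
    simp only [Category.assoc, eKf, eCf, ← Spec.map_comp_assoc]
    congr 2
  have hagree : ψ ≫ m₁ = χ ≫ m₂ := by
    apply Spec.map_injective
    rw [Spec.map_comp, Spec.map_comp, hψ, hχ, ← Category.assoc, ← Category.assoc (Spec.map m₂),
      ← Category.assoc, ← Category.assoc _ Φ]
    congr 1
    have e1 : Spec.map m₁ ≫ eK = pullback.lift ((Spec.map m₁ ≫ eK) ≫ pullback.fst _ _)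
        ((Spec.map m₁ ≫ eK) ≫ pullback.snd _ _) (by simp only [Category.assoc, pullback.condition]) := by
      apply pullback.hom_ext
      · rw [pullback.lift_fst]
      · rw [pullback.lift_snd]
    have e2 : Spec.map m₂ ≫ eC = pullback.lift ((Spec.map m₁ ≫ eK) ≫ pullback.fst _ _)
        ((Spec.map m₂ ≫ eC) ≫ pullback.snd _ _) (by rw [hf]; simp only [Category.assoc, pullback.condition]) := by
      apply pullback.hom_ext
      · rw [pullback.lift_fst, hf]
      · rw [pullback.lift_snd]
    rw [e1, e2]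
    exact h _ _ _ _ _
  have hinj : Function.Injective (Algebra.TensorProduct.includeLeftRingHom : Γ(T, ⊤) →+* Γ(T, ⊤) ⊗[R] K) := by
    have h1 : Function.Injective ((Algebra.linearMap R K).lTensor Γ(T, ⊤)) :=
      Module.Flat.lTensor_preserves_injective_linearMap _ (IsFractionRing.injective R K)
    intro x y hxy
    have h2 : x ⊗ₜ[R] (1 : R) = y ⊗ₜ[R] (1 : R) := h1 (by simpa using hxy)
    simpa using congrArg (TensorProduct.rid R Γ(T, ⊤)) h2
  have hmem : ∀ c, ∃ a, a ⊗ₜ[R] (1 : K) = ψ.hom c := fun c =>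
    exists_of_agree (L := L) (ψ.hom c) (χ.hom c) congr($(hagree).hom c)
  choose ω hω using hmem
  let ω' : Γ(Y, ⊤) →+* Γ(T, ⊤) :=
    { toFun := ω
      map_one' := hinj (by show ω 1 ⊗ₜ[R] (1 : K) = _; rw [hω, map_one]; rfl)
      map_mul' := fun b b' => hinj (by
        show ω (b * b') ⊗ₜ[R] (1 : K) = _
        rw [hω, map_mul, ← hω b, ← hω b']
        exact Algebra.TensorProduct.tmul_mul_tmul _ _ _ _ |>.trans (by rw [mul_one]; rfl))
      map_zero' := hinj (by show ω 0 ⊗ₜ[R] (1 : K) = _; rw [hω, map_zero, map_zero])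
      map_add' := fun b b' => hinj (by
        show ω (b + b') ⊗ₜ[R] (1 : K) = _
        rw [hω, map_add ψ.hom, ← hω b, ← hω b', map_add]
        rfl) }
  refine ⟨T.isoSpec.hom ≫ Spec.map (CommRingCat.ofHom ω') ≫ Y.isoSpec.inv, ?_⟩
  haveI : IsIso eK := by
    dsimp only [eK]
    haveI := pullback.map_isIso (Spec.map (CommRingCat.ofHom (algebraMap R Γ(T, ⊤)))) (Spec.map (CommRingCat.ofHom (algebraMap R K))) t (Spec.map (CommRingCat.ofHom (algebraMap R K))) T.isoSpec.inv (𝟙 _) (𝟙 _) (by rw [Category.comp_id, ← hα]; rfl) (by simp)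
    infer_instance
  rw [← cancel_epi eK, reassoc_of% eKf, Iso.inv_hom_id_assoc, ← Spec.map_comp_assoc,
    show CommRingCat.ofHom ω' ≫ CommRingCat.ofHom Algebra.TensorProduct.includeLeftRingHom = ψ from
      CommRingCat.hom_ext (RingHom.ext hω), hψ]
  simp

end Groth.Agent.TorsNorm28
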